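import Groth.Prelude.Def_RootCh
import Mathlib.LinearAlgebra.RootSystem.BaseExists
import Mathlib.LinearAlgebra.RootSystem.Finite.Nondegenerate
import Mathlib.Data.Sign.Basic
import Mathlib.Tactic.Module
import Mathlib.Tactic.LinearCombination
import Mathlib.Tactic.Positivity

/-!
Weyl chambers, fundamental weights and facets of a finite root system over an ordered field.
-/

set_option autoImplicit false
set_option linter.unusedSectionVars false

universe u v w x

namespace Groth.Agent.Lead.RootCh

open RootPairing Module Set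
open scoped Classical
open scoped _root_.RootCh

variable {ι : Type u} {R : Type v} {M : Type w} {N : Type x}
variable [Field R] [LinearOrder R] [IsStrictOrderedRing R]
variable [AddCommGroup M] [Module R M] [AddCommGroup N] [Module R N] [Fintype ι]
variable {P : RootPairing ι R M N} [P.IsRootSystem] [P.IsCrystallographic] [P.IsReduced]

/-! ### pairings and the polarization -/

lemma coroot'_apply (i : ι) (ξ : M) : P.coroot' i ξ = P.toLinearMap ξ (P.coroot i) := rfl

lemma root'_apply (i : ι) (y : N) : P.root' i y = P.toLinearMap (P.root i) y := rfl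

variable (P) in
/-- the ratio between a coroot and the polarized root -/
noncomputable def cf (i : ι) : R := 2 / P.RootForm (P.root i) (P.root i)

lemma cf_pos (i : ι) : 0 < cf P i :=
  div_pos two_pos (P.rootForm_pos_of_ne_zero (Submodule.subset_span ⟨i, rfl⟩) (P.ne_zero i))

lemma coroot_eq_cf (i : ι) : P.coroot i = cf P i • P.PolarizationEquiv (P.root i) :=
  P.coroot_eq_polarizationEquiv_apply_root i

lemma pair_pol (a b : M) : P.toLinearMap a (P.PolarizationEquiv b) = P.RootForm b a := by
  rw [P.polarizationEquiv_apply, ← P.flip_comp_polarization_eq_rootForm]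
  rfl

lemma pair_pol_comm (a b : M) :
    P.toLinearMap a (P.PolarizationEquiv b) = P.toLinearMap b (P.PolarizationEquiv a) := by
  rw [pair_pol, pair_pol]; exact P.rootForm_symmetric.eq b a

lemma coroot'_eq (i : ι) (ξ : M) : P.coroot' i ξ = cf P i * P.root' i (P.PolarizationEquiv ξ) := by
  rw [coroot'_apply, coroot_eq_cf, map_smul, pair_pol_comm, smul_eq_mul, root'_apply]

lemma root'_pol (i : ι) (ξ : M) : P.root' i (P.PolarizationEquiv ξ) = (cf P i)⁻¹ * P.coroot' i ξ := by
  rw [coroot'_eq, ← mul_assoc, inv_mul_cancel₀ (cf_pos i).ne', one_mul]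

lemma sign_root'_pol (i : ι) (ξ : M) :
    SignType.sign (P.root' i (P.PolarizationEquiv ξ)) = SignType.sign (P.coroot' i ξ) := by
  rw [root'_pol, sign_mul, sign_pos (inv_pos.2 (cf_pos i)), one_mul]

variable (P) in
/-- the index of the opposite root -/
abbrev nidx (i : ι) : ι := P.reflectionPerm i i

lemma root_nidx (i : ι) : P.root (nidx P i) = -P.root i := by simp

lemma coroot_nidx (i : ι) : P.coroot (nidx P i) = -P.coroot i := by simp

lemma nidx_nidx (i : ι) : nidx P (nidx P i) = i := P.root.injective (by rw [root_nidx, root_nidx, neg_neg])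

lemma root'_nidx (i : ι) (y : N) : P.root' (nidx P i) y = -P.root' i y := by
  rw [root'_apply, root_nidx, map_neg, LinearMap.neg_apply, root'_apply]

lemma coroot'_nidx (i : ι) (ξ : M) : P.coroot' (nidx P i) ξ = -P.coroot' i ξ := by
  rw [coroot'_apply, coroot_nidx, map_neg, coroot'_apply]

lemma sgnVec_nidx (ξ : M) (i : ι) : _root_.RootCh.sgnVec P ξ (nidx P i) = -_root_.RootCh.sgnVec P ξ i := by
  simp only [_root_.RootCh.sgnVec, coroot'_nidx, Left.sign_neg]

lemma isPos_nidx (b : P.Base) (i : ι) : b.IsPos (nidx P i) ↔ ¬ b.IsPos i :=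
  RootPairing.Base.IsPos.neg_iff_not b i

/-! ### expansion of positive (co)roots -/

lemma isPos_coeff (b : P.Base) {i : ι} (h : b.IsPos i) :
    ∃ f : ι → ℤ, (∀ j, 0 ≤ f j) ∧ (∃ j ∈ b.support, 0 < f j) ∧ P.root i = ∑ j ∈ b.support, f j • P.root j := by
  obtain ⟨f, hs, hf, he⟩ := b.exists_root_eq_sum_int i
  have hpos : 0 < b.height i := h
  rw [Base.height_eq_sum he] at hpos
  rcases hf with hf | hf
  · exact ⟨f, fun j => hf.le j, by
      by_contra hc
      push_neg at hc
      have := Finset.sum_nonpos hc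
      omega, he⟩
  · exfalso
    have := Finset.sum_nonpos fun j (_ : j ∈ b.support) => hf.le j
    omega

/-- the coefficient of a simple root in a root, as a scalar -/
noncomputable def coe' (b : P.Base) (i : ι) (j : b.support) : R := b.toWeightBasis.repr (P.root i) j

lemma root_eq_sum_coe' (b : P.Base) (i : ι) : P.root i = ∑ j : b.support, coe' b i j • P.root j := by
  conv_lhs => rw [← b.toWeightBasis.sum_repr (P.root i)]
  simp [coe']

lemma coe'_eq_of (b : P.Base) {i : ι} {f : ι → ℤ} (h : P.root i = ∑ j ∈ b.support, f j • P.root j) (j : b.support) :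
    coe' b i j = (f j : R) := by
  have e : P.root i = ∑ l : b.support, (f l : R) • b.toWeightBasis l := by
    rw [h, ← Finset.sum_coe_sort b.support]
    simp [Int.cast_smul_eq_zsmul]
  rw [coe', e, b.toWeightBasis.repr_sum_self]

lemma coe'_nonneg (b : P.Base) {i : ι} (h : b.IsPos i) (j : b.support) : 0 ≤ coe' b i j := by
  obtain ⟨f, h0, -, he⟩ := isPos_coeff b h
  rw [coe'_eq_of b he]
  exact Int.cast_nonneg (h0 j)

lemma coe'_support (b : P.Base) (j l : b.support) :
    coe' b j l = if l = j then 1 else 0 := by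
  rw [coe', Base.toWeightBasis_repr_root, Finsupp.single_apply]
  simp [eq_comm]

lemma coe'_nidx (b : P.Base) (i : ι) (j : b.support) : coe' b (nidx P i) j = -coe' b i j := by
  rw [coe', coe', root_nidx, map_neg, Finsupp.neg_apply]

lemma exists_coe'_pos (b : P.Base) {i : ι} (h : b.IsPos i) : ∃ j : b.support, 0 < coe' b i j := by
  obtain ⟨f, -, ⟨j, hj, hj0⟩, he⟩ := isPos_coeff b h
  exact ⟨⟨j, hj⟩, by rw [coe'_eq_of b he]; exact Int.cast_pos.2 hj0⟩

lemma root'_eq_sum (b : P.Base) (i : ι) (y : N) :
    P.root' i y = ∑ j : b.support, coe' b i j * P.root' j y := by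
  conv_lhs => rw [root'_apply, root_eq_sum_coe' b i, map_sum, LinearMap.sum_apply]
  simp [root'_apply]

lemma coroot'_eq_sum (b : P.Base) (i : ι) (ξ : M) :
    P.coroot' i ξ = ∑ j : b.support, (cf P i * coe' b i j * (cf P (j : ι))⁻¹) * P.coroot' j ξ := by
  rw [coroot'_eq i ξ, root'_eq_sum b i, Finset.mul_sum]
  refine Finset.sum_congr rfl fun j _ => ?_
  rw [coroot'_eq (j : ι) ξ, mul_assoc (cf P i * coe' b i j), ← mul_assoc (cf P (j : ι))⁻¹,
    inv_mul_cancel₀ (cf_pos _).ne', one_mul, mul_assoc]

lemma coroot'_nonneg (b : P.Base) {ξ : M} (hξ : ξ ∈ _root_.RootCh.closedChamber b) {i : ι} (h : b.IsPos i) :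
    0 ≤ P.coroot' i ξ := by
  rw [coroot'_eq_sum b]
  refine Finset.sum_nonneg fun j _ => mul_nonneg ?_ (hξ j j.2)
  exact mul_nonneg (mul_nonneg (cf_pos i).le (coe'_nonneg b h j)) (inv_nonneg.2 (cf_pos _).le)

lemma coroot'_eq_zero_iff (b : P.Base) {ξ : M} (hξ : ξ ∈ _root_.RootCh.closedChamber b) {i : ι} (h : b.IsPos i) :
    P.coroot' i ξ = 0 ↔ ∀ j : b.support, coe' b i j ≠ 0 → P.coroot' j ξ = 0 := by
  rw [coroot'_eq_sum b, Finset.sum_eq_zero_iff_of_nonneg]
  · simp only [Finset.mem_univ, true_implies, mul_eq_zero, (cf_pos _).ne', inv_eq_zero, false_or, or_false]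
    exact forall_congr' fun j => or_iff_not_imp_left
  · intro j _
    exact mul_nonneg (mul_nonneg (mul_nonneg (cf_pos i).le (coe'_nonneg b h j)) (inv_nonneg.2 (cf_pos _).le)) (hξ j j.2)

lemma coroot'_pos_of_open (b : P.Base) {ξ : M} (hξ : ξ ∈ _root_.RootCh.openChamber b) {i : ι} (h : b.IsPos i) :
    0 < P.coroot' i ξ := by
  refine lt_of_le_of_ne (coroot'_nonneg b (fun j hj => (hξ j hj).le) h) fun he => ?_
  obtain ⟨j, hj⟩ := exists_coe'_pos b h
  exact absurd ((coroot'_eq_zero_iff b (fun j hj => (hξ j hj).le) h).1 he.symm j hj.ne') (hξ j j.2).ne'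

lemma mem_closedChamber_iff (b : P.Base) (ξ : M) :
    ξ ∈ _root_.RootCh.closedChamber b ↔ ∀ i, b.IsPos i → 0 ≤ P.coroot' i ξ :=
  ⟨fun h _ hi => coroot'_nonneg b h hi, fun h i hi => h i (Base.isPos_of_mem_support hi)⟩

/-! ### fundamental weights -/

open _root_.RootCh (fundWeight fundCoweight)

lemma coroot'_fundWeight (b : P.Base) (j l : b.support) :
    P.coroot' j (fundWeight b l) = if j = l then 1 else 0 := by
  split_ifs with h
  · subst h; exact _root_.RootCh.coroot'_fundWeight_self b j
  · exact _root_.RootCh.coroot'_fundWeight_of_ne b l j h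

lemma root'_fundCoweight (b : P.Base) (j l : b.support) :
    P.root' j (fundCoweight b l) = if j = l then 1 else 0 := by
  split_ifs with h
  · subst h; exact _root_.RootCh.root'_fundCoweight_self b j
  · exact _root_.RootCh.root'_fundCoweight_of_ne b l j h

lemma ext_weight (b : P.Base) {ξ ζ : M} (h : ∀ j : b.support, P.coroot' j ξ = P.coroot' j ζ) : ξ = ζ := by
  have e : P.toLinearMap ξ = P.toLinearMap ζ := b.toCoweightBasis.ext fun j => by
    rw [Base.toCoweightBasis_apply]; exact h j
  exact P.toPerfPair.injective e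

lemma ext_coweight (b : P.Base) {y z : N} (h : ∀ j : b.support, P.root' j y = P.root' j z) : y = z := by
  have e : P.toLinearMap.flip y = P.toLinearMap.flip z := b.toWeightBasis.ext fun j => by
    rw [Base.toWeightBasis_apply]; exact h j
  exact P.flip.toPerfPair.injective e

lemma sum_fundWeight (b : P.Base) (a : b.support → R) (j : b.support) :
    P.coroot' j (∑ l : b.support, a l • fundWeight b l) = a j := by
  rw [map_sum, Finset.sum_eq_single j]
  · rw [map_smul, coroot'_fundWeight, if_pos rfl, smul_eq_mul, mul_one]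
  · intro l _ hl; rw [map_smul, coroot'_fundWeight, if_neg (Ne.symm hl), smul_zero]
  · simp

lemma weight_expansion (b : P.Base) (ξ : M) : ξ = ∑ l : b.support, P.coroot' l ξ • fundWeight b l :=
  ext_weight b fun j => (sum_fundWeight b (fun l => P.coroot' l ξ) j).symm

lemma root'_fundCoweight_any (b : P.Base) (i : ι) (l : b.support) :
    P.root' i (fundCoweight b l) = coe' b i l := by
  rw [root'_eq_sum b, Finset.sum_eq_single l]
  · simp [root'_fundCoweight]
  · intro j _ hj; simp [root'_fundCoweight, hj]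
  · simp

lemma exists_int_coroot'_fundWeight (b : P.Base) (l : b.support) (i : ι) :
    ∃ n : ℤ, P.coroot' i (fundWeight b l) = (n : R) := by
  obtain ⟨f, -, -, he⟩ := b.flip.exists_root_eq_sum_int i
  have he' : P.coroot i = ∑ j ∈ b.support, f j • P.coroot j := he
  refine ⟨f l, ?_⟩
  rw [coroot'_apply, he', map_sum, Finset.sum_eq_single (l : ι)]
  · rw [map_zsmul, ← coroot'_apply, _root_.RootCh.coroot'_fundWeight_self, zsmul_one]
  · intro j hj hjl
    rw [map_zsmul, ← coroot'_apply, _root_.RootCh.coroot'_fundWeight_of_ne b l ⟨j, hj⟩ (fun h => hjl (congrArg Subtype.val h)), smul_zero]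
  · exact fun h => absurd l.2 h

lemma eq_of_pos_smul (b b' : P.Base) (l : b.support) (l' : b'.support) {a : R} (ha : 0 < a)
    (h : fundWeight b' l' = a • fundWeight b l) : a = 1 := by
  obtain ⟨n, hn⟩ := exists_int_coroot'_fundWeight b' l' l
  obtain ⟨m, hm⟩ := exists_int_coroot'_fundWeight b l l'
  have h1 := congrArg (P.coroot' (l : ι)) h
  rw [map_smul, hn, _root_.RootCh.coroot'_fundWeight_self, smul_eq_mul, mul_one] at h1
  have h2 := congrArg (P.coroot' (l' : ι)) h
  rw [map_smul, _root_.RootCh.coroot'_fundWeight_self, hm, smul_eq_mul, ← h1] at h2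
  have h3 : (1 : ℤ) = n * m := by exact_mod_cast h2
  have hnpos : 0 < n := by rw [← h1] at ha; exact_mod_cast ha
  rw [← h1, show n = 1 from (Int.eq_one_of_mul_eq_one_right hnpos.le h3.symm)]
  exact Int.cast_one

lemma fundCoweight_eq_pol (b : P.Base) (l : b.support) :
    fundCoweight b l = cf P (l : ι) • P.PolarizationEquiv (fundWeight b l) := by
  refine ext_coweight b fun j => ?_
  rw [map_smul, root'_pol, coroot'_fundWeight, root'_fundCoweight, smul_eq_mul]
  split_ifs with h
  · subst h; rw [mul_one, mul_inv_cancel₀ (cf_pos _).ne']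
  · simp

lemma fundCoweight_eq_of (b b' : P.Base) (l : b.support) (l' : b'.support)
    (h : fundWeight b' l' = fundWeight b l) : fundCoweight b' l' = fundCoweight b l := by
  have h1 : fundCoweight b' l' = (cf P (l' : ι) / cf P (l : ι)) • fundCoweight b l := by
    rw [fundCoweight_eq_pol, fundCoweight_eq_pol, h, smul_smul, div_mul_cancel₀ _ (cf_pos _).ne']
  rw [h1, eq_of_pos_smul (P := P.flip) b.flip b'.flip l l' (div_pos (cf_pos _) (cf_pos _)) h1, one_smul]

lemma fundWeight_eq_of (b b' : P.Base) (l : b.support) (l' : b'.support)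
    (h : fundCoweight b' l' = fundCoweight b l) : fundWeight b' l' = fundWeight b l := by
  rw [fundCoweight_eq_pol, fundCoweight_eq_pol] at h
  have h1 : fundWeight b' l' = (cf P (l : ι) / cf P (l' : ι)) • fundWeight b l := by
    apply P.PolarizationEquiv.injective
    rw [map_smul, div_eq_inv_mul, ← smul_smul, ← h, smul_smul, inv_mul_cancel₀ (cf_pos _).ne', one_smul]
  rw [h1, eq_of_pos_smul b b' l l' (div_pos (cf_pos _) (cf_pos _)) h1, one_smul]

lemma corr_fundWeight_iff (b : P.Base) (l : b.support) (y : N) :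
    _root_.RootCh.Corr P (fundWeight b l) y ↔ y = fundCoweight b l := by
  constructor
  · rintro ⟨b', l', h1, rfl⟩
    exact fundCoweight_eq_of b b' l l' h1
  · rintro rfl
    exact ⟨b, l, rfl, rfl⟩

/-! ### bases -/

lemma base_ext {b b' : P.Base} (h : ∀ i, b.IsPos i → b'.IsPos i) : b = b' := by
  have key : ∀ (b b' : P.Base), (∀ i, b'.IsPos i → b.IsPos i) → (∀ i, b.IsPos i → b'.IsPos i) →
      b.support ⊆ b'.support := by
    intro b b' hb hb' i hi
    obtain ⟨f, h0, -, he⟩ := isPos_coeff b' (hb' i (Base.isPos_of_mem_support hi))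
    have hh : b.height i = ∑ j ∈ b'.support, f j * b.height j := by
      have e : ∀ j, P.root j = ∑ l ∈ b.support, (b.exists_root_eq_sum_int j).choose l • P.root l :=
        fun j => (b.exists_root_eq_sum_int j).choose_spec.2.2
      have : P.root i = ∑ l ∈ b.support, (∑ j ∈ b'.support, f j * (b.exists_root_eq_sum_int j).choose l) • P.root l := by
        rw [he]
        conv_lhs => enter [2, j]; rw [e j, Finset.smul_sum]
        rw [Finset.sum_comm]
        refine Finset.sum_congr rfl fun l _ => ?_
        rw [Finset.sum_smul]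
        exact Finset.sum_congr rfl fun j _ => smul_smul _ _ _
      rw [Base.height_eq_sum this, Finset.sum_comm]
      exact Finset.sum_congr rfl fun j _ => by rw [Base.height, Finset.mul_sum]
    rw [Base.height_one_of_mem_support hi] at hh
    have hge : ∀ j ∈ b'.support, f j ≤ f j * b.height j := fun j hj =>
      le_mul_of_one_le_right (h0 j) (hb j (Base.isPos_of_mem_support hj))
    have hsum : ∑ j ∈ b'.support, f j ≤ 1 := (Finset.sum_le_sum hge).trans_eq hh.symm
    obtain ⟨j, hj, hj0⟩ : ∃ j ∈ b'.support, f j ≠ 0 := by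
      by_contra hc
      push_neg at hc
      exact P.ne_zero i (by rw [he]; exact Finset.sum_eq_zero fun j hj => by rw [hc j hj, zero_smul])
    have hsingle : ∀ l ∈ b'.support, l ≠ j → f l = 0 := by
      intro l hl hlj
      classical
      have : f l + f j ≤ ∑ t ∈ b'.support, f t := by
        rw [← Finset.sum_pair hlj]
        exact Finset.sum_le_sum_of_subset_of_nonneg (by simp [Finset.insert_subset_iff, hl, hj]) fun t _ _ => h0 t
      have := h0 l
      have := h0 j
      omega
    have hf1 : f j = 1 := by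
      have := (Finset.single_le_sum (fun t _ => h0 t) hj).trans hsum
      have := h0 j
      omega
    have : P.root i = P.root j := by
      rw [he, Finset.sum_eq_single_of_mem j hj fun l hl hlj => by rw [hsingle l hl hlj, zero_smul], hf1, one_smul]
    rw [P.root.injective this]
    exact hj
  have h' : ∀ i, b'.IsPos i → b.IsPos i := by
    intro i hi
    by_contra hn
    exact (isPos_nidx b' i).1 (h _ ((isPos_nidx b i).2 hn)) hi
  have hs : b.support = b'.support := Finset.Subset.antisymm (key b b' h' h) (key b' b h h')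
  obtain ⟨s, _, _, _, _⟩ := b
  obtain ⟨s', _, _, _, _⟩ := b'
  cases hs
  rfl

variable (P) in
lemma exists_base_of_functional (g : Dual R M) (hg : ∀ i, g (P.root i) ≠ 0) :
    ∃ b : P.Base, ∀ i, b.IsPos i ↔ 0 < g (P.root i) := by
  classical
  let := P.indexNeg
  let s := IsAddIndecomposable.baseOf P.root (g : M →+ R)
  let b : P.Base := Base.mk' P s (P.linearIndepOn_root_baseOf' g hg)
    (fun i => IsAddIndecomposable.mem_or_neg_mem_closure_baseOf P.root (g : M →+ R) i (hg i) (by simp))
  have hs : ∀ j ∈ b.support, 0 < g (P.root j) := fun j hj => by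
    have : j ∈ s := by simpa [b, Base.mk'] using hj
    exact this.1
  have hfw : ∀ i, b.IsPos i → 0 < g (P.root i) := by
    intro i hi
    obtain ⟨f, h0, ⟨j, hj, hj0⟩, he⟩ := isPos_coeff b hi
    rw [he, map_sum]
    refine Finset.sum_pos' (fun l hl => ?_) ⟨j, hj, ?_⟩
    · rw [map_zsmul]; exact zsmul_nonneg (hs l hl).le (h0 l)
    · rw [map_zsmul]; exact zsmul_pos (hs j hj) hj0
  refine ⟨b, fun i => ⟨hfw i, fun h => ?_⟩⟩
  by_contra hn
  have := hfw _ ((isPos_nidx b i).2 hn)
  rw [root_nidx, map_neg] at this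
  linarith

/-- the sum of the fundamental weights -/
noncomputable def rho (b : P.Base) : M := ∑ l : b.support, fundWeight b l

lemma coroot'_rho (b : P.Base) (j : b.support) : P.coroot' j (rho b) = 1 := by
  simpa [rho] using sum_fundWeight b (fun _ => 1) j

lemma rho_mem_open (b : P.Base) : rho b ∈ _root_.RootCh.openChamber b := fun i hi => by
  rw [coroot'_rho b ⟨i, hi⟩]; exact one_pos

lemma rho_regular (b : P.Base) (i : ι) : P.coroot' i (rho b) ≠ 0 := by
  by_cases h : b.IsPos i
  · exact (coroot'_pos_of_open b (rho_mem_open b) h).ne'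
  · have := coroot'_pos_of_open b (rho_mem_open b) ((isPos_nidx b i).2 h)
    rw [coroot'_nidx] at this
    linarith

variable (P) in
/-- A base whose closed chamber contains `ξ`, tie broken by a regular `η`. -/
lemma exists_base_lex (ξ η : M) (hη : ∀ i, P.coroot' i η ≠ 0) :
    ∃ b : P.Base, ∀ i, b.IsPos i ↔ (0 < P.coroot' i ξ ∨ (P.coroot' i ξ = 0 ∧ 0 < P.coroot' i η)) := by
  classical
  let S : R := ∑ i, |P.coroot' i η| / |P.coroot' i ξ|
  have hS : 0 ≤ S := Finset.sum_nonneg fun i _ => div_nonneg (abs_nonneg _) (abs_nonneg _)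
  have h1 : (0 : R) < 1 + S := by linarith
  let ε : R := (1 + S)⁻¹
  have hε : 0 < ε := inv_pos.2 h1
  have hsmall : ∀ i, P.coroot' i ξ ≠ 0 → ε * |P.coroot' i η| < |P.coroot' i ξ| := by
    intro i hi
    have h2 : |P.coroot' i η| / |P.coroot' i ξ| ≤ S :=
      Finset.single_le_sum (f := fun t => |P.coroot' t η| / |P.coroot' t ξ|) (fun t _ => div_nonneg (abs_nonneg _) (abs_nonneg _)) (Finset.mem_univ i)
    rw [div_le_iff₀ (abs_pos.2 hi)] at h2
    rw [show ε = (1 + S)⁻¹ from rfl, inv_mul_lt_iff₀ h1]
    nlinarith [abs_pos.2 hi]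
  have hsign : ∀ i, (0 < P.coroot' i (ξ + ε • η) ↔ (0 < P.coroot' i ξ ∨ (P.coroot' i ξ = 0 ∧ 0 < P.coroot' i η))) ∧
      P.coroot' i (ξ + ε • η) ≠ 0 := by
    intro i
    rw [map_add, map_smul, smul_eq_mul]
    rcases lt_trichotomy (P.coroot' i ξ) 0 with h | h | h
    · have := hsmall i h.ne
      rw [abs_of_neg h] at this
      have h3 := le_abs_self (P.coroot' i η)
      have : P.coroot' i ξ + ε * P.coroot' i η < 0 := by nlinarith
      exact ⟨⟨fun h' => absurd h' (not_lt.2 this.le), by rintro (h' | ⟨h', -⟩) <;> linarith⟩, this.ne⟩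
    · rw [h, zero_add]
      exact ⟨⟨fun h' => Or.inr ⟨rfl, (pos_iff_pos_of_mul_pos h').1 hε⟩, by
        rintro (h' | ⟨-, h'⟩)
        · exact absurd h' (lt_irrefl _)
        · exact mul_pos hε h'⟩, mul_ne_zero hε.ne' (hη i)⟩
    · have := hsmall i h.ne'
      rw [abs_of_pos h] at this
      have h3 := neg_abs_le (P.coroot' i η)
      have : 0 < P.coroot' i ξ + ε * P.coroot' i η := by nlinarith
      exact ⟨⟨fun _ => Or.inl h, fun _ => this⟩, this.ne'⟩
  let g : Dual R M := P.toLinearMap.flip (P.PolarizationEquiv (ξ + ε • η))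
  have hg : ∀ i, g (P.root i) = (cf P i)⁻¹ * P.coroot' i (ξ + ε • η) := fun i => root'_pol i _
  obtain ⟨b, hb⟩ := exists_base_of_functional P g fun i => by
    rw [hg]; exact mul_ne_zero (inv_ne_zero (cf_pos i).ne') (hsign i).2
  refine ⟨b, fun i => ?_⟩
  rw [hb i, hg i, ← (hsign i).1]
  exact mul_pos_iff_of_pos_left (inv_pos.2 (cf_pos i))

variable (P) in
lemma exists_mem_closedChamber (ξ : M) : ∃ b : P.Base, ξ ∈ _root_.RootCh.closedChamber b := by
  obtain ⟨b₀⟩ := P.nonempty_base
  obtain ⟨b, hb⟩ := exists_base_lex P ξ (rho b₀) (rho_regular b₀)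
  refine ⟨b, fun i hi => ?_⟩
  rcases (hb i).1 (Base.isPos_of_mem_support hi) with h | ⟨h, -⟩
  · exact h.le
  · exact h.ge

end Groth.Agent.Lead.RootCh
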