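import Groth.Agent.Lead.RootCh.Core
import Groth.Prelude.Def_RootCh2
import Mathlib.LinearAlgebra.Dimension.Constructions
import Mathlib.Algebra.BigOperators.Group.Finset.Piecewise

/-!
Facets, their corners and parabolic sets of roots.
-/

set_option autoImplicit false
set_option linter.unusedSectionVars false

universe u v w x

namespace Groth.Agent.Lead.RootCh

open RootPairing Module Set
open scoped Classical
open _root_.RootCh (fundWeight fundCoweight Facet sgnVec)

variable {ι : Type u} {R : Type v} {M : Type w} {N : Type x}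
variable [Field R] [LinearOrder R] [IsStrictOrderedRing R]
variable [AddCommGroup M] [Module R M] [AddCommGroup N] [Module R N] [Fintype ι]
variable {P : RootPairing ι R M N} [P.IsRootSystem] [P.IsCrystallographic] [P.IsReduced]

lemma sgnVec_ne_neg_one {ξ : M} {i : ι} : sgnVec P ξ i ≠ -1 ↔ 0 ≤ P.coroot' i ξ := by
  rw [sgnVec, Ne, sign_eq_neg_one_iff, not_lt]

lemma sgnVec_eq_zero {ξ : M} {i : ι} : sgnVec P ξ i = 0 ↔ P.coroot' i ξ = 0 := sign_eq_zero_iff

lemma sgnVec_eq_one {ξ : M} {i : ι} : sgnVec P ξ i = 1 ↔ 0 < P.coroot' i ξ := sign_eq_one_iff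

lemma carrier_nonempty (F : Facet P) : ∃ ξ : M, sgnVec P ξ = F.sgn := F.exists_sgnVec_eq

lemma sgn_nidx (F : Facet P) (i : ι) : F.sgn (nidx P i) = -F.sgn i := by
  obtain ⟨ξ, h⟩ := F.exists_sgnVec_eq
  rw [← h, sgnVec_nidx]

lemma cham_iff (F : Facet P) (b : P.Base) : b ∈ F.cham ↔ ∀ i, b.IsPos i → F.sgn i ≠ -1 := by
  constructor
  · intro h i hi
    obtain ⟨ξ, hξ⟩ := F.exists_sgnVec_eq
    rw [← hξ, sgnVec_ne_neg_one]
    exact coroot'_nonneg b (h hξ) hi
  · intro h ξ hξ i hi
    rw [← sgnVec_ne_neg_one, show sgnVec P ξ = F.sgn from hξ]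
    exact h i (Base.isPos_of_mem_support hi)

lemma cham_of_mem {F : Facet P} {b : P.Base} {ξ : M} (hξ : sgnVec P ξ = F.sgn)
    (h : ξ ∈ _root_.RootCh.closedChamber b) : b ∈ F.cham := by
  rw [cham_iff]
  intro i hi
  rw [← hξ, sgnVec_ne_neg_one]
  exact coroot'_nonneg b h hi

lemma cham_nonempty (F : Facet P) : ∃ b, b ∈ F.cham := by
  obtain ⟨ξ, h⟩ := F.exists_sgnVec_eq
  obtain ⟨b, hb⟩ := exists_mem_closedChamber P ξ
  exact ⟨b, cham_of_mem h hb⟩

/-- the simple roots not vanishing on a facet -/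
noncomputable def Jset (F : Facet P) (b : P.Base) : Finset b.support :=
  Finset.univ.filter fun j => F.sgn j ≠ 0

lemma mem_Jset {F : Facet P} {b : P.Base} {j : b.support} : j ∈ Jset F b ↔ F.sgn j ≠ 0 := by
  simp [Jset]

lemma sgn_simple {F : Facet P} {b : P.Base} (hb : b ∈ F.cham) (j : b.support) :
    F.sgn j = if j ∈ Jset F b then 1 else 0 := by
  have h := (cham_iff F b).1 hb j (Base.isPos_of_mem_support j.2)
  split_ifs with hj
  · rw [mem_Jset] at hj
    revert h hj
    cases F.sgn j <;> simp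
  · rw [mem_Jset] at hj
    exact not_not.1 hj

lemma sgn_eq_zero_iff {F : Facet P} {b : P.Base} (hb : b ∈ F.cham) {i : ι} (hi : b.IsPos i) :
    F.sgn i = 0 ↔ ∀ j ∈ Jset F b, coe' b i j = 0 := by
  obtain ⟨ξ, hξ⟩ := F.exists_sgnVec_eq
  rw [← hξ, sgnVec_eq_zero, coroot'_eq_zero_iff b (hb hξ) hi]
  refine forall_congr' fun j => ?_
  rw [mem_Jset, ← hξ, Ne, Ne, sgnVec_eq_zero]
  tauto

lemma sgn_pos_root {F : Facet P} {b : P.Base} (hb : b ∈ F.cham) {i : ι} (hi : b.IsPos i) :
    F.sgn i = if ∀ j ∈ Jset F b, coe' b i j = 0 then 0 else 1 := by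
  split_ifs with h
  · exact (sgn_eq_zero_iff hb hi).2 h
  · have h1 := (cham_iff F b).1 hb i hi
    have h2 := fun e => h ((sgn_eq_zero_iff hb hi).1 e)
    revert h1 h2
    cases F.sgn i <;> simp

lemma facet_eq_of {F G : Facet P} {b : P.Base} (hF : b ∈ F.cham) (hG : b ∈ G.cham)
    (h : Jset F b = Jset G b) : F = G := by
  ext i
  by_cases hi : b.IsPos i
  · rw [sgn_pos_root hF hi, sgn_pos_root hG hi, h]
  · have hn := (isPos_nidx b i).2 hi
    have := sgn_pos_root hF hn
    rw [h, ← sgn_pos_root hG hn, sgn_nidx, sgn_nidx] at this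
    exact neg_injective this

/-- the sum of the fundamental weights of a set of simple indices -/
noncomputable def pt (b : P.Base) (J : Finset b.support) : M := ∑ l ∈ J, fundWeight b l

lemma coroot'_pt (b : P.Base) (J : Finset b.support) (j : b.support) :
    P.coroot' j (pt b J) = if j ∈ J then 1 else 0 := by
  simp only [pt, map_sum, coroot'_fundWeight, Finset.sum_ite_eq]

lemma pt_mem_closed (b : P.Base) (J : Finset b.support) : pt b J ∈ _root_.RootCh.closedChamber b :=
  fun i hi => by rw [coroot'_pt b J ⟨i, hi⟩]; split_ifs <;> norm_num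

lemma cham_ofVec (b : P.Base) (J : Finset b.support) : b ∈ (Facet.ofVec P (pt b J)).cham :=
  cham_of_mem rfl (pt_mem_closed b J)

lemma Jset_ofVec (b : P.Base) (J : Finset b.support) : Jset (Facet.ofVec P (pt b J)) b = J := by
  ext j
  rw [mem_Jset, show (Facet.ofVec P (pt b J)).sgn j = sgnVec P (pt b J) j from rfl, Ne, sgnVec_eq_zero, coroot'_pt]
  simp

/-! ### corners -/

lemma fundWeight_injective (b : P.Base) : Function.Injective (fundWeight b) := fun j l h => by
  have h1 := coroot'_fundWeight b j j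
  rw [h, coroot'_fundWeight, if_pos rfl] at h1
  by_contra hne
  rw [if_neg hne] at h1
  exact zero_ne_one h1

lemma fundWeight_mem_closed (b : P.Base) (l : b.support) : fundWeight b l ∈ _root_.RootCh.closedChamber b :=
  fun i hi => by rw [coroot'_fundWeight b ⟨i, hi⟩]; split_ifs <;> norm_num

theorem baseCorners_eq (b : P.Base) : _root_.RootCh.baseCorners b = Set.range (fundWeight b) := by
  refine Set.Subset.antisymm ?_ ?_
  · rintro _ ⟨⟨b', k, rfl⟩, hcl⟩
    have hk : P.coroot' (k : ι) (fundWeight b' k) = 1 := _root_.RootCh.coroot'_fundWeight_self b' k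
    have hne : fundWeight b' k ≠ 0 := fun h => by rw [h, map_zero] at hk; exact zero_ne_one hk
    obtain ⟨l, hl⟩ : ∃ l : b.support, P.coroot' l (fundWeight b' k) ≠ 0 := by
      by_contra hc
      push_neg at hc
      exact hne (ext_weight b fun j => by rw [hc j, map_zero])
    have hlk : ∀ m : b'.support, m ≠ k → P.coroot' m (fundWeight b l) = 0 := by
      intro m hm
      have hz : P.coroot' m (fundWeight b' k) = 0 := _root_.RootCh.coroot'_fundWeight_of_ne b' k m hm
      have key : ∀ i, b.IsPos i → P.coroot' i (fundWeight b' k) = 0 → P.coroot' i (fundWeight b l) = 0 := by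
        intro i hi h0
        rw [coroot'_eq_zero_iff b (fundWeight_mem_closed b l) hi]
        intro j hj
        rw [coroot'_fundWeight, if_neg]
        rintro rfl
        exact hl ((coroot'_eq_zero_iff b hcl hi).1 h0 j hj)
      by_cases hi : b.IsPos m
      · exact key m hi hz
      · have := key _ ((isPos_nidx b _).2 hi) (by rw [coroot'_nidx, hz, neg_zero])
        rwa [coroot'_nidx, neg_eq_zero] at this
    have hω : fundWeight b l = P.coroot' (k : ι) (fundWeight b l) • fundWeight b' k := by
      refine ext_weight b' fun m => ?_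
      rw [map_smul, coroot'_fundWeight, smul_eq_mul]
      split_ifs with h
      · subst h; rw [mul_one]
      · rw [hlk m h, mul_zero]
    have hl1 : P.coroot' (l : ι) (fundWeight b l) = 1 := _root_.RootCh.coroot'_fundWeight_self b l
    rw [hω, map_smul, smul_eq_mul] at hl1
    have hlpos : 0 < P.coroot' (l : ι) (fundWeight b' k) := lt_of_le_of_ne (hcl l l.2) (Ne.symm hl)
    have hapos : 0 < P.coroot' (k : ι) (fundWeight b l) := by
      by_contra hc
      have := mul_nonpos_of_nonpos_of_nonneg (not_lt.1 hc) hlpos.le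
      linarith
    refine ⟨l, ?_⟩
    rw [hω, eq_of_pos_smul b' b k l hapos hω, one_smul]
  · rintro _ ⟨l, rfl⟩
    exact ⟨⟨b, l, rfl⟩, fundWeight_mem_closed b l⟩

lemma closure_sub_closed {F : Facet P} {b : P.Base} (hb : b ∈ F.cham) {m : M} (hm : m ∈ F.closure) :
    m ∈ _root_.RootCh.closedChamber b := by
  intro i hi
  rw [← sgnVec_ne_neg_one]
  rcases hm i with h | h
  · rw [h]; decide
  · rw [h]; exact (cham_iff F b).1 hb i (Base.isPos_of_mem_support hi)

theorem corners_eq {F : Facet P} {b : P.Base} (hb : b ∈ F.cham) :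
    F.corners = fundWeight b '' (Jset F b : Set b.support) := by
  refine Set.Subset.antisymm ?_ ?_
  · rintro m ⟨hw, hm⟩
    obtain ⟨l, rfl⟩ : m ∈ Set.range (fundWeight b) := baseCorners_eq b ▸ ⟨hw, closure_sub_closed hb hm⟩
    refine ⟨l, Finset.mem_coe.2 (mem_Jset.2 fun h => ?_), rfl⟩
    have h1 : sgnVec P (fundWeight b l) l = 1 := by rw [sgnVec_eq_one, coroot'_fundWeight, if_pos rfl]; exact one_pos
    rcases hm l with h' | h' <;> simp [h1, h] at h'
  · rintro _ ⟨l, hl, rfl⟩
    refine ⟨⟨b, l, rfl⟩, fun i => ?_⟩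
    have key : ∀ i, b.IsPos i → sgnVec P (fundWeight b l) i = 0 ∨ sgnVec P (fundWeight b l) i = F.sgn i := by
      intro i hi
      by_cases h0 : P.coroot' i (fundWeight b l) = 0
      · exact Or.inl (sgnVec_eq_zero.2 h0)
      · refine Or.inr ?_
        rw [sgnVec_eq_one.2 (lt_of_le_of_ne (coroot'_nonneg b (fundWeight_mem_closed b l) hi) (Ne.symm h0)),
          sgn_pos_root hb hi, if_neg]
        intro hall
        apply h0
        rw [coroot'_eq_zero_iff b (fundWeight_mem_closed b l) hi]
        intro j hj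
        rw [coroot'_fundWeight, if_neg]
        rintro rfl
        exact hj (hall j hl)
    by_cases hi : b.IsPos i
    · exact key i hi
    · rcases key _ ((isPos_nidx b i).2 hi) with h | h
      · exact Or.inl (by rwa [sgnVec_nidx, neg_eq_zero_iff] at h)
      · exact Or.inr (by rw [sgnVec_nidx, sgn_nidx] at h; exact neg_injective h)
where
  neg_eq_zero_iff {s : SignType} : -s = 0 ↔ s = 0 := by cases s <;> simp

lemma corners_finite (F : Facet P) : F.corners.Finite := by
  obtain ⟨b, hb⟩ := cham_nonempty F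
  rw [corners_eq hb]
  exact (Finset.finite_toSet _).image _

lemma linearIndependent_fundWeight (b : P.Base) : LinearIndependent R (fundWeight b) := by
  rw [Fintype.linearIndependent_iff]
  intro a ha j
  rw [← sum_fundWeight b a j, ha, map_zero]

theorem linearIndepOn_corners (F : Facet P) : LinearIndepOn R (fun m : M => m) F.corners := by
  obtain ⟨b, hb⟩ := cham_nonempty F
  rw [corners_eq hb]
  exact ((linearIndependent_fundWeight b).linearIndepOn_id).mono (Set.image_subset_range _ _)

theorem mem_carrier_iff {F : Facet P} {b : P.Base} (hb : b ∈ F.cham) {ξ : M} :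
    ξ ∈ F.carrier ↔ ∃ a : b.support → R, (∀ j ∈ Jset F b, 0 < a j) ∧ ξ = ∑ j ∈ Jset F b, a j • fundWeight b j := by
  constructor
  · intro h
    have h' : sgnVec P ξ = F.sgn := h
    refine ⟨fun j => P.coroot' j ξ, fun j hj => ?_, ?_⟩
    · rw [← sgnVec_eq_one, h', sgn_simple hb, if_pos hj]
    · conv_lhs => rw [weight_expansion b ξ]
      refine (Finset.sum_subset (Finset.subset_univ _) fun j _ hj => ?_).symm
      rw [mem_Jset, not_not, ← h', sgnVec_eq_zero] at hj
      rw [hj, zero_smul]
  · rintro ⟨a, ha, rfl⟩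
    have hj : ∀ j : b.support, P.coroot' j (∑ l ∈ Jset F b, a l • fundWeight b l) = if j ∈ Jset F b then a j else 0 := by
      intro j
      simp only [map_sum, map_smul, coroot'_fundWeight, smul_eq_mul, mul_ite, mul_one, mul_zero, Finset.sum_ite_eq]
    have hcl : (∑ l ∈ Jset F b, a l • fundWeight b l) ∈ _root_.RootCh.closedChamber b := fun i hi => by
      rw [hj ⟨i, hi⟩]; split_ifs with h
      · exact (ha _ h).le
      · exact le_refl 0
    have : Facet.ofVec P (∑ l ∈ Jset F b, a l • fundWeight b l) = F := by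
      refine facet_eq_of (cham_of_mem rfl hcl) hb ?_
      ext j
      rw [mem_Jset, show (Facet.ofVec P _).sgn j = sgnVec P _ j from rfl, Ne, sgnVec_eq_zero, hj]
      split_ifs with h
      · exact iff_of_true (ha j h).ne' h
      · exact iff_of_false (not_not.2 rfl) h
    exact congrArg Facet.sgn this

lemma pt_mem_carrier {F : Facet P} {b : P.Base} (hb : b ∈ F.cham) : pt b (Jset F b) ∈ F.carrier :=
  (mem_carrier_iff hb).2 ⟨fun _ => 1, fun _ _ => one_pos, by simp [pt]⟩

theorem span_carrier (F : Facet P) : Submodule.span R F.carrier = Submodule.span R F.corners := by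
  obtain ⟨b, hb⟩ := cham_nonempty F
  refine le_antisymm (Submodule.span_le.2 fun ξ hξ => ?_) (Submodule.span_le.2 ?_)
  · obtain ⟨a, -, rfl⟩ := (mem_carrier_iff hb).1 hξ
    refine Submodule.sum_mem _ fun j hj => Submodule.smul_mem _ _ (Submodule.subset_span ?_)
    rw [corners_eq hb]
    exact ⟨j, hj, rfl⟩
  · rw [corners_eq hb]
    rintro _ ⟨l, hl, rfl⟩
    have h2 : pt b (Jset F b) + fundWeight b l ∈ F.carrier := by
      refine (mem_carrier_iff hb).2 ⟨fun j => if j = l then 2 else 1, fun j _ => by show 0 < (if j = l then (2 : R) else 1); split_ifs <;> norm_num, ?_⟩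
      simp only [pt, ite_smul, one_smul]
      rw [← Finset.sum_erase_add _ _ (Finset.mem_coe.1 hl), ← Finset.sum_erase_add _ _ (Finset.mem_coe.1 hl), if_pos rfl]
      rw [add_assoc, two_smul]
      congr 1
      exact Finset.sum_congr rfl fun j hj => (if_neg (Finset.ne_of_mem_erase hj)).symm
    have := Submodule.sub_mem _ (Submodule.subset_span (R := R) h2) (Submodule.subset_span (pt_mem_carrier hb))
    rwa [add_sub_cancel_left] at this

theorem carrier_eq_comb (F : Facet P) :
    F.carrier = {ξ : M | ∃ c : M →₀ R, (c.support : Set M) ⊆ F.corners ∧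
      (∀ m ∈ F.corners, 0 < c m) ∧ c.sum (fun m r => r • m) = ξ} := by
  obtain ⟨b, hb⟩ := cham_nonempty F
  rw [corners_eq hb]
  ext ξ
  constructor
  · intro h
    obtain ⟨a, ha, rfl⟩ := (mem_carrier_iff hb).1 h
    have hinj := fundWeight_injective b
    let c : M →₀ R := ∑ j ∈ Jset F b, Finsupp.single (fundWeight b j) (a j)
    have hc : ∀ j ∈ Jset F b, c (fundWeight b j) = a j := by
      intro j hj
      simp only [c, Finsupp.finset_sum_apply, Finsupp.single_apply]
      rw [Finset.sum_eq_single j (fun l _ hl => if_neg (fun e => hl (hinj e))) (fun h => absurd hj h), if_pos rfl]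
    refine ⟨c, ?_, ?_, ?_⟩
    · intro m hm
      by_contra hnot
      refine Finsupp.mem_support_iff.1 (Finset.mem_coe.1 hm) ?_
      simp only [c, Finsupp.finset_sum_apply, Finsupp.single_apply]
      exact Finset.sum_eq_zero fun l hl => if_neg fun e => hnot ⟨l, hl, e⟩
    · rintro _ ⟨j, hj, rfl⟩
      rw [hc j hj]; exact ha j hj
    · simp only [c]
      rw [← Finsupp.sum_finset_sum_index (fun m => zero_smul R m) (fun m r s => add_smul r s m)]
      exact Finset.sum_congr rfl fun j _ => Finsupp.sum_single_index (zero_smul R _)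
  · rintro ⟨c, hs, hpos, rfl⟩
    refine (mem_carrier_iff hb).2 ⟨fun j => c (fundWeight b j), fun j hj => hpos _ ⟨j, hj, rfl⟩, ?_⟩
    rw [Finsupp.sum_of_support_subset c (s := (Jset F b).image (fundWeight b))
      (fun m hm => by
        obtain ⟨j, hj, rfl⟩ := hs (Finset.mem_coe.2 hm)
        exact Finset.mem_image_of_mem _ hj) _ (fun m _ => zero_smul R m),
      Finset.sum_image fun a _ c _ h => fundWeight_injective b h]

theorem dim_eq {F : Facet P} {b : P.Base} (hb : b ∈ F.cham) : F.dim = (Jset F b).card := by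
  have h : Submodule.span R F.corners = Submodule.span R (Set.range fun j : Jset F b => fundWeight b j) := by
    rw [corners_eq hb]
    congr 1
    ext m
    simp
  rw [Facet.dim, span_carrier, h, finrank_span_eq_card (b := fun j : Jset F b => fundWeight b j) ((linearIndependent_fundWeight b).comp _ Subtype.val_injective),
    Fintype.card_coe]

theorem exists_corners_insert (F : Facet P) (m : M) (hm : m ∈ F.corners') :
    ∃ G : Facet P, G.corners = insert m F.corners := by
  simp only [Facet.corners', Set.mem_iUnion] at hm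
  obtain ⟨b, hb, hm⟩ := hm
  rw [baseCorners_eq] at hm
  obtain ⟨l, rfl⟩ := hm
  refine ⟨Facet.ofVec P (pt b (insert l (Jset F b))), ?_⟩
  rw [corners_eq (cham_ofVec b _), Jset_ofVec, corners_eq hb, Finset.coe_insert, Set.image_insert_eq]

theorem exists_corners_diff (F : Facet P) (m : M) (hm : m ∈ F.corners) :
    ∃ G : Facet P, G.corners = F.corners \ {m} := by
  obtain ⟨b, hb⟩ := cham_nonempty F
  rw [corners_eq hb] at hm ⊢
  obtain ⟨l, -, rfl⟩ := hm
  refine ⟨Facet.ofVec P (pt b ((Jset F b).erase l)), ?_⟩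
  rw [corners_eq (cham_ofVec b _), Jset_ofVec, Finset.coe_erase, Set.image_sdiff (fundWeight_injective b), Set.image_singleton]

theorem corners_injective {F G : Facet P} (h : F.corners = G.corners) : F = G := by
  have hF := carrier_eq_comb F
  rw [h, ← carrier_eq_comb G] at hF
  obtain ⟨ξ, hξ⟩ := F.exists_sgnVec_eq
  have : ξ ∈ G.carrier := by rw [← hF]; exact hξ
  exact Facet.ext (hξ.symm.trans this)

theorem dualCorners_eq (F : Facet P) :
    F.dualCorners = {y : N | ∃ m ∈ F.corners, _root_.RootCh.Corr P m y} := by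
  have hsign : ∀ (b : P.Base) (l : b.support) (i : ι),
      _root_.RootCh.cosgnVec P (fundCoweight b l) i = sgnVec P (fundWeight b l) i := by
    intro b l i
    rw [_root_.RootCh.cosgnVec, sgnVec, fundCoweight_eq_pol, map_smul, smul_eq_mul, sign_mul, sign_pos (cf_pos _), one_mul,
      sign_root'_pol]
  ext y
  constructor
  · rintro ⟨⟨b', l', rfl⟩, hy⟩
    let b : P.Base := Base.flip (P := P.flip) b'
    refine ⟨fundWeight b l', ⟨⟨b, l', rfl⟩, fun i => ?_⟩, b, l', rfl, rfl⟩
    rw [← hsign b l' i]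
    exact hy i
  · rintro ⟨m, ⟨-, hm⟩, b, l, rfl, rfl⟩
    refine ⟨⟨b.flip, l, rfl⟩, fun i => ?_⟩
    rw [hsign b l i]
    exact hm i

/-! ### parabolic sets -/

lemma mem_parab_iff (F : Facet P) {ξ : M} (hξ : sgnVec P ξ = F.sgn) (i : ι) :
    i ∈ F.parab ↔ 0 ≤ P.root' i (P.PolarizationEquiv ξ) := by
  show F.sgn i ≠ -1 ↔ _
  rw [← hξ, sgnVec_ne_neg_one, root'_pol]
  exact (mul_nonneg_iff_of_pos_left (inv_pos.2 (cf_pos i))).symm

theorem parab_isParabolic (F : Facet P) : _root_.RootCh.IsParabolicSubset P F.parab := by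
  obtain ⟨ξ, hξ⟩ := F.exists_sgnVec_eq
  refine ⟨fun i j k hi hj hk => ?_, fun i => ?_⟩
  · rw [mem_parab_iff F hξ] at hi hj ⊢
    rw [root'_apply, hk, map_add, LinearMap.add_apply, ← root'_apply, ← root'_apply]
    exact add_nonneg hi hj
  · rw [mem_parab_iff F hξ, show P.reflectionPerm i i = nidx P i from rfl, mem_parab_iff F hξ, root'_nidx, neg_nonneg]
    exact le_total _ _

theorem parab_injective {F G : Facet P} (h : F.parab = G.parab) : F = G := by
  ext i
  have h1 : F.sgn i ≠ -1 ↔ G.sgn i ≠ -1 := Set.ext_iff.1 h i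
  have h2 : F.sgn (nidx P i) ≠ -1 ↔ G.sgn (nidx P i) ≠ -1 := Set.ext_iff.1 h _
  rw [sgn_nidx, sgn_nidx] at h2
  revert h1 h2
  cases F.sgn i <;> cases G.sgn i <;> simp

theorem le_iff_parab (F G : Facet P) : F ≤ G ↔ F.parab ⊆ G.parab := by
  rw [Facet.le_def]
  constructor
  · intro h i hi
    rcases h i with h' | h'
    · show G.sgn i ≠ -1
      rw [h']; decide
    · show G.sgn i ≠ -1
      rw [h']; exact hi
  · intro h i
    have h1 : F.sgn i ≠ -1 → G.sgn i ≠ -1 := fun e => h e
    have h2 : F.sgn (nidx P i) ≠ -1 → G.sgn (nidx P i) ≠ -1 := fun e => h e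
    rw [sgn_nidx, sgn_nidx] at h2
    revert h1 h2
    cases F.sgn i <;> cases G.sgn i <;> simp

lemma exists_reflect_base (b : P.Base) {j : ι} (hj : j ∈ b.support) :
    ∃ b' : P.Base, ∀ i, b'.IsPos i ↔ ((i ≠ j ∧ b.IsPos i) ∨ i = nidx P j) := by
  have he : ∀ i, P.coroot' i (P.reflection j (rho b)) = P.coroot' (P.reflectionPerm j i) (rho b) :=
    fun i => P.coroot'_reflection _
  obtain ⟨b', hb'⟩ := exists_base_lex P (P.reflection j (rho b)) (P.reflection j (rho b))
    (fun i => by rw [he]; exact rho_regular b _)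
  refine ⟨b', fun i => ?_⟩
  have h1 : b'.IsPos i ↔ b.IsPos (P.reflectionPerm j i) := by
    rw [hb' i, he]
    constructor
    · intro h
      by_contra hn
      have := coroot'_pos_of_open b (rho_mem_open b) ((isPos_nidx b _).2 hn)
      rw [coroot'_nidx] at this
      rcases h with h | ⟨-, h⟩ <;> linarith
    · exact fun h => Or.inl (coroot'_pos_of_open b (rho_mem_open b) h)
  rw [h1]
  by_cases hij : i = j
  · subst hij
    have hp := Base.isPos_of_mem_support (b := b) hj
    refine iff_of_false (fun h => (isPos_nidx b i).1 h hp) ?_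
    rintro (⟨h, -⟩ | h)
    · exact h rfl
    · exact (isPos_nidx b i).1 (h ▸ hp) hp
  by_cases hin : i = nidx P j
  · subst hin
    refine iff_of_true ?_ (Or.inr rfl)
    have e : P.reflectionPerm j (nidx P j) = j := P.reflectionPerm_self j j
    rw [e]
    exact Base.isPos_of_mem_support hj
  constructor
  · intro h
    refine Or.inl ⟨hij, ?_⟩
    by_contra hn
    have hne : nidx P i ≠ j := fun e => hin (by rw [← e, nidx_nidx])
    have h3 := ((isPos_nidx b i).2 hn).reflectionPerm hj hne
    have e : P.reflectionPerm j (nidx P i) = nidx P (P.reflectionPerm j i) :=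
      P.root.injective (by rw [P.root_reflectionPerm, root_nidx, root_nidx, P.root_reflectionPerm, map_neg])
    rw [e] at h3
    exact (isPos_nidx b _).1 h3 h
  · rintro (⟨-, h⟩ | h)
    · exact h.reflectionPerm hj hij
    · exact absurd h hin

lemma exists_base_subset {S : Set ι} (hS : _root_.RootCh.IsParabolicSubset P S) :
    ∃ b : P.Base, ∀ i, b.IsPos i → i ∈ S := by
  let cnt : P.Base → ℕ := fun b => (Finset.univ.filter fun i => b.IsPos i ∧ i ∉ S).card
  have hex : ∃ n, ∃ b, cnt b = n := ⟨_, P.nonempty_base.some, rfl⟩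
  obtain ⟨b, hb⟩ := Nat.find_spec hex
  have hsimple : ∀ j ∈ b.support, j ∈ S := by
    intro j hj
    by_contra hjS
    have hn : nidx P j ∈ S := (hS.2 j).resolve_left hjS
    obtain ⟨b', hb'⟩ := exists_reflect_base b hj
    have hlt : cnt b' < cnt b := by
      refine Finset.card_lt_card ⟨fun i hi => ?_, fun h => ?_⟩
      · simp only [Finset.mem_filter, Finset.mem_univ, true_and] at hi ⊢
        rcases (hb' i).1 hi.1 with h | h
        · exact ⟨h.2, hi.2⟩
        · exact absurd (h ▸ hn) hi.2
      · have hj' : j ∈ Finset.univ.filter fun i => b.IsPos i ∧ i ∉ S := by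
          simp [Base.isPos_of_mem_support hj, hjS]
        have := h hj'
        simp only [Finset.mem_filter, Finset.mem_univ, true_and, hb'] at this
        rcases this.1 with h' | h'
        · exact h'.1 rfl
        · exact hjS (h' ▸ hn)
    exact absurd (Nat.find_min' hex ⟨b', rfl⟩) (by omega)
  exact ⟨b, fun i hi => hi.induction_on_add hsimple fun p q r h hp hq => hS.1 p q r hp (hsimple q hq) h⟩

theorem exists_parab_eq {S : Set ι} (hS : _root_.RootCh.IsParabolicSubset P S) :
    ∃ F : Facet P, F.parab = S := by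
  obtain ⟨b, hb⟩ := exists_base_subset hS
  let J : Finset b.support := Finset.univ.filter fun j => nidx P (j : ι) ∉ S
  refine ⟨Facet.ofVec P (pt b J), ?_⟩
  have hc := cham_ofVec b J
  have hJ := Jset_ofVec b J
  have hadd : ∀ i l k : ι, P.root k = P.root i + P.root l → ∀ j, coe' b k j = coe' b i j + coe' b l j := by
    intro i l k h j
    simp only [coe', h, map_add, Finsupp.add_apply]
  have key : ∀ i, b.IsPos i → (b.IsPos i ∧ (nidx P i ∈ S ↔ ∀ j ∈ J, coe' b i j = 0)) := by
    intro i hi
    refine hi.induction_on_add (p := fun i => b.IsPos i ∧ (nidx P i ∈ S ↔ ∀ j ∈ J, coe' b i j = 0)) ?_ ?_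
    · intro l hl
      refine ⟨Base.isPos_of_mem_support hl, fun h j hj => ?_, fun h => ?_⟩
      · rw [coe'_support b ⟨l, hl⟩, if_neg]
        rintro rfl
        exact (Finset.mem_filter.1 hj).2 h
      · by_contra hn
        have := h ⟨l, hl⟩ (Finset.mem_filter.2 ⟨Finset.mem_univ _, hn⟩)
        rw [coe'_support b ⟨l, hl⟩ ⟨l, hl⟩, if_pos rfl] at this
        exact one_ne_zero this
    · intro i l k hk hpi hl
      have hkpos : b.IsPos k := hpi.1.add (Base.isPos_of_mem_support hl) hk
      have hlS : l ∈ S := hb l (Base.isPos_of_mem_support hl)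
      refine ⟨hkpos, fun h => ?_, fun h => ?_⟩
      · have h1 : nidx P i ∈ S := hS.1 _ _ _ h hlS (by rw [root_nidx, root_nidx, hk]; abel)
        have h2 : nidx P l ∈ S := hS.1 _ _ _ h (hb i hpi.1) (by rw [root_nidx, root_nidx, hk]; abel)
        intro j hj
        rw [hadd _ _ _ hk, hpi.2.1 h1 j hj, coe'_support b ⟨l, hl⟩, if_neg, add_zero]
        rintro rfl
        exact (Finset.mem_filter.1 hj).2 h2
      · have h1 : ∀ j ∈ J, coe' b i j = 0 ∧ coe' b l j = 0 := fun j hj => by
          have := h j hj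
          rw [hadd _ _ _ hk] at this
          exact (add_eq_zero_iff_of_nonneg (coe'_nonneg b hpi.1 j) (coe'_nonneg b (Base.isPos_of_mem_support hl) j)).1 this
        have h2 : nidx P l ∈ S := by
          by_contra hn
          have := (h1 ⟨l, hl⟩ (Finset.mem_filter.2 ⟨Finset.mem_univ _, hn⟩)).2
          rw [coe'_support b ⟨l, hl⟩ ⟨l, hl⟩, if_pos rfl] at this
          exact one_ne_zero this
        exact hS.1 _ _ _ (hpi.2.2 fun j hj => (h1 j hj).1) h2 (by rw [root_nidx, root_nidx, root_nidx, hk]; abel)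
  ext i
  show (Facet.ofVec P (pt b J)).sgn i ≠ -1 ↔ i ∈ S
  by_cases hi : b.IsPos i
  · exact iff_of_true ((cham_iff _ b).1 hc i hi) (hb i hi)
  · have hn := (isPos_nidx b i).2 hi
    have h1 := (key _ hn).2
    rw [nidx_nidx] at h1
    rw [h1, ← nidx_nidx (P := P) i, sgn_nidx, sgn_pos_root hc hn, hJ, nidx_nidx]
    split_ifs with h
    · exact iff_of_true (by simp) h
    · exact iff_of_false (by simp) h

theorem isParabolic_iff :
    ∀ S : Set ι, _root_.RootCh.IsParabolicSubset P S ↔ ∃! F : Facet P, F.parab = S := by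
  refine fun S => ⟨fun hS => ?_, ?_⟩
  · obtain ⟨F, hF⟩ := exists_parab_eq hS
    exact ⟨F, hF, fun G hG => parab_injective (hG.trans hF.symm)⟩
  · rintro ⟨F, rfl, -⟩
    exact parab_isParabolic F

theorem corners_eq_nonneg (F : Facet P) :
    F.corners = {m : M | m ∈ _root_.RootCh.fundWeights P ∧
      ∀ y : N, _root_.RootCh.Corr P m y → ∀ i ∈ F.parab, 0 ≤ P.root' i y} := by
  have hiff : ∀ (b : P.Base) (l : b.support) (i : ι),
      0 ≤ P.root' i (fundCoweight b l) ↔ sgnVec P (fundWeight b l) i ≠ -1 := by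
    intro b l i
    rw [sgnVec_ne_neg_one, fundCoweight_eq_pol, map_smul, root'_pol, smul_eq_mul,
      mul_nonneg_iff_of_pos_left (cf_pos _), mul_nonneg_iff_of_pos_left (inv_pos.2 (cf_pos i))]
  ext m
  constructor
  · rintro ⟨⟨b, l, rfl⟩, hm⟩
    refine ⟨⟨b, l, rfl⟩, fun y hy i hi => ?_⟩
    rw [(corr_fundWeight_iff b l y).1 hy, hiff]
    rcases hm i with h | h
    · rw [h]; decide
    · rw [h]; exact hi
  · rintro ⟨⟨b, l, rfl⟩, hm⟩
    refine ⟨⟨b, l, rfl⟩, fun i => ?_⟩
    have h := hm _ ((corr_fundWeight_iff b l _).2 rfl)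
    have h1 : F.sgn i ≠ -1 → sgnVec P (fundWeight b l) i ≠ -1 := fun e => (hiff b l i).1 (h i e)
    have h2 : F.sgn (nidx P i) ≠ -1 → sgnVec P (fundWeight b l) (nidx P i) ≠ -1 := fun e => (hiff b l _).1 (h _ e)
    rw [sgn_nidx, sgnVec_nidx] at h2
    revert h1 h2
    cases F.sgn i <;> cases sgnVec P (fundWeight b l) i <;> simp

theorem existsUnique_of_parabolic (S : Set ι) (hS : _root_.RootCh.IsParabolicSubset P S) :
    ∃ F : Facet P,
      (F.corners = {m : M | m ∈ _root_.RootCh.fundWeights P ∧ ∀ y : N, _root_.RootCh.Corr P m y → ∀ i ∈ S, 0 ≤ P.root' i y} ∧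
        F.parab = S) ∧
      ∀ G : Facet P,
        G.corners = {m : M | m ∈ _root_.RootCh.fundWeights P ∧ ∀ y : N, _root_.RootCh.Corr P m y → ∀ i ∈ S, 0 ≤ P.root' i y} →
        G = F := by
  obtain ⟨F, rfl⟩ := exists_parab_eq hS
  exact ⟨F, ⟨corners_eq_nonneg F, rfl⟩, fun G hG => corners_injective (hG.trans (corners_eq_nonneg F).symm)⟩

/-! ### sums of roots -/

/-- the sum of the roots positive on a facet -/
noncomputable def vF (F : Facet P) : M := ∑ i ∈ Finset.univ.filter (fun i => F.sgn i = 1), P.root i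

lemma sgn_perm {F : Facet P} {b : P.Base} {l : b.support} (hl : l ∉ Jset F b) (i : ι) :
    F.sgn (P.reflectionPerm (l : ι) i) = F.sgn i := by
  rw [mem_Jset, not_not] at hl
  obtain ⟨ξ, hξ⟩ := F.exists_sgnVec_eq
  rw [← hξ, sgnVec_eq_zero] at hl
  have : P.reflection (l : ι) ξ = ξ := by rw [P.reflection_apply, hl, zero_smul, sub_zero]
  rw [← hξ, sgnVec, sgnVec, ← P.coroot'_reflection ξ, this]

lemma coroot'_eq_zero_of_fixed (l : ι) {u : M} (h : P.reflection l u = u) : P.coroot' l u = 0 := by
  rw [P.reflection_apply, sub_eq_self, smul_eq_zero] at h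
  exact h.resolve_right (P.ne_zero l)

lemma sum_fixed (l : ι) {S : Finset ι} (h : ∀ i, P.reflectionPerm l i ∈ S ↔ i ∈ S) :
    P.coroot' l (∑ i ∈ S, P.root i) = 0 := by
  refine coroot'_eq_zero_of_fixed l ?_
  rw [map_sum]
  refine Finset.sum_equiv (P.reflectionPerm l) (fun i => (h i).symm) fun i _ => ?_
  rw [P.root_reflectionPerm]

lemma coroot'_sum_pos (b : P.Base) (j : b.support) :
    P.coroot' j (∑ i ∈ Finset.univ.filter (fun i => b.IsPos i), P.root i) = 2 := by
  have hj : (j : ι) ∈ Finset.univ.filter fun i => b.IsPos i := by simp [Base.isPos_of_mem_support j.2]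
  rw [← Finset.add_sum_erase _ _ hj, map_add, root_coroot'_eq_pairing, P.pairing_same, sum_fixed (j : ι) ?_, add_zero]
  intro i
  simp only [Finset.mem_erase, Finset.mem_filter, Finset.mem_univ, true_and]
  have fwd : ∀ i, i ≠ (j : ι) ∧ b.IsPos i → P.reflectionPerm (j : ι) i ≠ (j : ι) ∧ b.IsPos (P.reflectionPerm (j : ι) i) := by
    rintro i ⟨h1, h2⟩
    refine ⟨fun e => ?_, h2.reflectionPerm j.2 h1⟩
    have : i = nidx P (j : ι) := by
      have := congrArg (P.reflectionPerm (j : ι)) e
      rwa [P.reflectionPerm_self] at this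
    subst this
    exact (isPos_nidx b _).1 h2 (Base.isPos_of_mem_support j.2)
  refine ⟨fun h => ?_, fwd i⟩
  have := fwd _ h
  rwa [P.reflectionPerm_self] at this

theorem vF_coroot {F : Facet P} {b : P.Base} (hb : b ∈ F.cham) (j : b.support) :
    if j ∈ Jset F b then 0 < P.coroot' j (vF F) else P.coroot' j (vF F) = 0 := by
  split_ifs with hj
  · have hsplit : vF F + ∑ i ∈ Finset.univ.filter (fun i => b.IsPos i ∧ F.sgn i = 0), P.root i =
        ∑ i ∈ Finset.univ.filter (fun i => b.IsPos i), P.root i := by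
      rw [vF, ← Finset.sum_union (Finset.disjoint_filter.2 fun i _ h1 h2 => by rw [h1] at h2; exact absurd h2.2 (by simp))]
      refine Finset.sum_congr ?_ fun _ _ => rfl
      ext i
      simp only [Finset.mem_union, Finset.mem_filter, Finset.mem_univ, true_and]
      constructor
      · rintro (h | h)
        · by_contra hn
          have := (cham_iff F b).1 hb _ ((isPos_nidx b i).2 hn)
          rw [sgn_nidx, h] at this
          exact this rfl
        · exact h.1
      · intro h
        have := (cham_iff F b).1 hb i h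
        revert this
        cases F.sgn i <;> simp [h]
    have h2 := coroot'_sum_pos b j
    rw [← hsplit, map_add] at h2
    have h3 : P.coroot' j (∑ i ∈ Finset.univ.filter (fun i => b.IsPos i ∧ F.sgn i = 0), P.root i) ≤ 0 := by
      rw [map_sum]
      refine Finset.sum_nonpos fun i hi => ?_
      obtain ⟨-, hp, h0⟩ := Finset.mem_filter.1 hi
      rw [root_eq_sum_coe' b i, map_sum]
      refine Finset.sum_nonpos fun l _ => ?_
      rw [map_smul, root_coroot'_eq_pairing, smul_eq_mul]
      by_cases hlj : l = j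
      · subst hlj; rw [(sgn_eq_zero_iff hb hp).1 h0 _ hj, zero_mul]
      · refine mul_nonpos_of_nonneg_of_nonpos (coe'_nonneg b hp l) ?_
        rw [← P.algebraMap_pairingIn ℤ, eq_intCast]
        exact Int.cast_nonpos.2 (b.pairingIn_le_zero_of_ne (fun h => hlj (Subtype.ext h)) l.2 j.2)
    linarith
  · exact sum_fixed (j : ι) fun i => by simp only [Finset.mem_filter, Finset.mem_univ, true_and, sgn_perm hj]

theorem vF_mem_carrier (F : Facet P) : vF F ∈ F.carrier := by
  obtain ⟨b, hb⟩ := cham_nonempty F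
  refine (mem_carrier_iff hb).2 ⟨fun j => P.coroot' j (vF F), fun j hj => ?_, ?_⟩
  · have := vF_coroot hb j
    rwa [if_pos hj] at this
  · conv_lhs => rw [weight_expansion b (vF F)]
    refine (Finset.sum_subset (Finset.subset_univ _) fun j _ hj => ?_).symm
    have := vF_coroot hb j
    rw [if_neg hj] at this
    rw [this, zero_smul]

lemma sum_levi (F : Facet P) : ∑ i ∈ Finset.univ.filter (fun i => F.sgn i = 0), P.root i = 0 := by
  refine Finset.sum_involution (fun i _ => nidx P i) (fun i _ => by rw [root_nidx]; abel) ?_ ?_ ?_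
  · intro i _ _ h
    have := congrArg P.root h
    rw [root_nidx] at this
    have h2 : (2 : R) • P.root i = 0 := by rw [two_smul]; nth_rewrite 1 [← this]; abel
    exact P.ne_zero i ((smul_eq_zero.1 h2).resolve_left two_ne_zero)
  · intro i hi
    simp only [Finset.mem_filter, Finset.mem_univ, true_and] at hi ⊢
    rw [sgn_nidx, hi]; rfl
  · exact fun i _ => nidx_nidx i

theorem sum_parab_eq (F : Facet P) :
    ∑ i ∈ (Set.toFinite F.parab).toFinset, P.root i = vF F := by
  have e : (Set.toFinite F.parab).toFinset = Finset.univ.filter (fun i => F.sgn i = 1) ∪ Finset.univ.filter (fun i => F.sgn i = 0) := by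
    ext i
    simp only [Set.Finite.mem_toFinset, Finset.mem_union, Finset.mem_filter, Finset.mem_univ, true_and]
    show F.sgn i ≠ -1 ↔ _
    cases F.sgn i <;> simp
  rw [e, Finset.sum_union (Finset.disjoint_filter.2 fun i _ h1 h2 => by rw [h1] at h2; simp at h2), sum_levi, add_zero, vF]

lemma mem_Psi_iff {F : Facet P} {b : P.Base} (hb : b ∈ F.cham) {j : b.support} {i : ι} :
    i ∈ F.Psi (fundWeight b j) ↔ coe' b i j = 1 ∧ ∀ l ∈ Jset F b, l ≠ j → coe' b i l = 0 := by
  simp only [_root_.RootCh.Facet.Psi, Set.mem_setOf_eq, corners_eq hb]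
  constructor
  · rintro ⟨h1, h2⟩
    refine ⟨?_, fun l hl hne => ?_⟩
    · rw [← root'_fundCoweight_any]; exact h1 _ ((corr_fundWeight_iff b j _).2 rfl)
    · rw [← root'_fundCoweight_any]
      exact h2 _ ⟨l, hl, rfl⟩ (fun e => hne (fundWeight_injective b e)) _ ((corr_fundWeight_iff b l _).2 rfl)
  · rintro ⟨h1, h2⟩
    refine ⟨fun y hy => ?_, ?_⟩
    · rw [(corr_fundWeight_iff b j y).1 hy, root'_fundCoweight_any, h1]
    · rintro _ ⟨l, hl, rfl⟩ hne y hy
      rw [(corr_fundWeight_iff b l y).1 hy, root'_fundCoweight_any, h2 l hl fun e => hne (by rw [e])]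

theorem sum_psi_mem_span (F : Facet P) (m : M) (hm : m ∈ F.corners) :
    (∑ i ∈ (Set.toFinite (F.Psi m)).toFinset, P.root i) ∈ Submodule.span R F.corners := by
  obtain ⟨b, hb⟩ := cham_nonempty F
  rw [corners_eq hb] at hm
  obtain ⟨j, hj, rfl⟩ := hm
  set u := ∑ i ∈ (Set.toFinite (F.Psi (fundWeight b j))).toFinset, P.root i with hu
  have hzero : ∀ l : b.support, l ∉ Jset F b → P.coroot' l u = 0 := by
    intro l hl
    refine sum_fixed (l : ι) fun i => ?_
    simp only [Set.Finite.mem_toFinset, mem_Psi_iff hb]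
    have hc : ∀ t ∈ Jset F b, coe' b (P.reflectionPerm (l : ι) i) t = coe' b i t := by
      intro t ht
      have hlt : t ≠ l := fun e => hl (e ▸ ht)
      have h0 : coe' b (l : ι) t = 0 := by rw [coe'_support, if_neg hlt]
      simp only [coe'] at h0 ⊢
      rw [P.root_reflectionPerm, P.reflection_apply, map_sub, map_smul, Finsupp.sub_apply, Finsupp.smul_apply, h0, smul_zero, sub_zero]
    rw [hc j hj]
    exact and_congr_right fun _ => forall₂_congr fun t ht => by rw [hc t ht]
  rw [corners_eq hb, weight_expansion b u]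
  refine Submodule.sum_mem _ fun l _ => ?_
  by_cases hl : l ∈ Jset F b
  · exact Submodule.smul_mem _ _ (Submodule.subset_span ⟨l, hl, rfl⟩)
  · rw [hzero l hl, zero_smul]; exact Submodule.zero_mem _

end Groth.Agent.Lead.RootCh
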