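import Groth.Agent.Lead.RootCh.Facets
import Groth.Prelude.Def_RootCh2
import Mathlib.Analysis.Convex.Combination
import Mathlib.Order.Preorder.Finite

/-!
Complementary convex solids: semi-stability and special facets.
-/

set_option autoImplicit false
set_option linter.unusedSectionVars false

universe u v w x

namespace Groth.Agent.Lead.RootCh

open RootPairing Module Set
open scoped Classical
open _root_.RootCh (fundWeight fundCoweight Facet sgnVec IsCCS dualSolid solid hyper halfClosed yLocus IsSpecial IsSemistable baseCorners)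

/-! ### Farkas -/

section Farkas

variable {K : Type v} [Field K] [LinearOrder K] [IsStrictOrderedRing K] {V : Type x} [AddCommGroup V] [Module K V]

/-- Farkas' lemma for finitely many vectors. -/
theorem farkas (n : ℕ) : ∀ (s : Fin n → V) (y : V),
    (∃ c : Fin n → K, (∀ i, 0 ≤ c i) ∧ ∑ i, c i • s i = y) ∨
    (∃ f : Dual K V, (∀ i, 0 ≤ f (s i)) ∧ f y < 0) := by
  induction n with
  | zero =>
    intro s y
    by_cases hy : y = 0
    · exact Or.inl ⟨fun i => i.elim0, fun i => i.elim0, by simp [hy]⟩
    · refine Or.inr ?_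
      obtain ⟨f, hf⟩ : ∃ f : Dual K V, f y ≠ 0 := by
        by_contra hc
        push_neg at hc
        exact hy ((Module.forall_dual_apply_eq_zero_iff K y).1 hc)
      refine ⟨(-(f y)) • f, fun i => i.elim0, ?_⟩
      rw [LinearMap.smul_apply, smul_eq_mul, neg_mul]
      exact neg_lt_zero.2 (mul_self_pos.2 hf)
  | succ n ih =>
    intro s y
    rcases ih (Fin.init s) y with ⟨c, hc, hsum⟩ | ⟨f, hf, hfy⟩
    · refine Or.inl ⟨Fin.snoc c 0, ?_, ?_⟩
      · intro i
        induction i using Fin.lastCases with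
        | last => simp
        | cast j => simpa using hc j
      · simpa [Fin.sum_univ_castSucc, Fin.init] using hsum
    by_cases hv : 0 ≤ f (s (Fin.last n))
    · refine Or.inr ⟨f, fun i => ?_, hfy⟩
      induction i using Fin.lastCases with
      | last => exact hv
      | cast j => exact hf j
    have hv' : f (s (Fin.last n)) < 0 := not_le.1 hv
    set v := s (Fin.last n)
    let π : V →ₗ[K] V := LinearMap.id - (f v)⁻¹ • f.smulRight v
    have hπ : ∀ z, π z = z - ((f v)⁻¹ * f z) • v := fun z => by simp [π, smul_smul]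
    rcases ih (fun i => π (s i.castSucc)) (π y) with ⟨c, hc, hsum⟩ | ⟨g, hg, hgy⟩
    · refine Or.inl ⟨Fin.snoc c ((f v)⁻¹ * f y - ∑ i, c i * ((f v)⁻¹ * f (s i.castSucc))), ?_, ?_⟩
      · intro i
        induction i using Fin.lastCases with
        | last =>
          rw [Fin.snoc_last, sub_nonneg]
          have hinv : (f v)⁻¹ < 0 := inv_lt_zero.2 hv'
          refine le_trans (Finset.sum_nonpos fun i _ => ?_) (mul_pos_of_neg_of_neg hinv hfy).le
          exact mul_nonpos_of_nonneg_of_nonpos (hc i) (mul_nonpos_of_nonpos_of_nonneg hinv.le (hf i))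
        | cast j => simpa using hc j
      · simp only [hπ, smul_sub, smul_smul, Finset.sum_sub_distrib, ← Finset.sum_smul] at hsum
        rw [Fin.sum_univ_castSucc]
        simp only [Fin.snoc_castSucc, Fin.snoc_last]
        rw [sub_smul, ← add_sub_assoc, eq_add_of_sub_eq hsum]
        module
    · refine Or.inr ⟨g.comp π, fun i => ?_, hgy⟩
      induction i using Fin.lastCases with
      | last =>
        rw [LinearMap.comp_apply, hπ, inv_mul_cancel₀ hv'.ne, one_smul, sub_self, map_zero]
      | cast j => exact hg j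

/-- separation of a point from the convex hull of a finite set -/
theorem exists_separation {s : Set V} (hs : s.Finite) {y : V} (hy : y ∉ convexHull K s) :
    ∃ φ : Dual K V, ∀ p ∈ s, φ y < φ p := by
  obtain ⟨n, e, he⟩ : ∃ (n : ℕ) (e : Fin n → V), Set.range e = s := by
    haveI := hs.fintype
    exact ⟨Fintype.card s, Subtype.val ∘ (Fintype.equivFin s).symm, by simp⟩
  rcases farkas (K := K) n (fun i => ((e i, (1 : K)) : V × K)) (y, (1 : K)) with ⟨c, hc, hsum⟩ | ⟨g, hg, hgy⟩
  · exfalso
    apply hy
    have h1 := congrArg Prod.fst hsum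
    have h2 := congrArg Prod.snd hsum
    simp only [Prod.fst_sum, Prod.smul_fst, Prod.snd_sum, Prod.smul_snd, smul_eq_mul, mul_one] at h1 h2
    rw [← h1]
    exact (convex_convexHull K s).sum_mem (fun i _ => hc i) h2 fun i _ => subset_convexHull K s (he ▸ ⟨i, rfl⟩)
  · refine ⟨g.comp (LinearMap.inl K V K), ?_⟩
    rintro p hp
    rw [← he] at hp
    obtain ⟨i, rfl⟩ := hp
    have e1 : ∀ z : V, g (z, (1 : K)) = g (z, 0) + g (0, 1) := fun z => by rw [← map_add]; simp
    have := hg i
    rw [e1] at this hgy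
    simp only [LinearMap.comp_apply, LinearMap.inl_apply]
    linarith

end Farkas

variable {ι : Type u} {R : Type v} {M : Type w} {N : Type x}
variable [Field R] [LinearOrder R] [IsStrictOrderedRing R]
variable [AddCommGroup M] [Module R M] [AddCommGroup N] [Module R N] [Fintype ι]
variable {P : RootPairing ι R M N} [P.IsRootSystem] [P.IsCrystallographic] [P.IsReduced]

/-! ### the fundamental inequality -/

lemma coweight_coord (b : P.Base) (y : N) :
    y = ∑ l : b.support, P.toLinearMap (fundWeight b l) y • P.coroot l := by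
  conv_lhs => rw [← b.toCoweightBasis.sum_repr y]
  refine Finset.sum_congr rfl fun l _ => ?_
  rw [Base.toCoweightBasis_apply]
  congr 1
  conv_rhs => rw [← b.toCoweightBasis.sum_repr y]
  rw [map_sum, Finset.sum_eq_single l]
  · rw [map_smul, Base.toCoweightBasis_apply, ← coroot'_apply, coroot'_fundWeight, if_pos rfl, smul_eq_mul, mul_one]
  · intro j _ hj
    rw [map_smul, Base.toCoweightBasis_apply, ← coroot'_apply, coroot'_fundWeight, if_neg hj, smul_zero]
  · simp

lemma adjacent {d : P.Base → N} (hd : IsCCS d) (b : P.Base) (j : b.support) (b' : P.Base)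
    (hb' : ∀ i, b'.IsPos i ↔ ((i ≠ (j : ι) ∧ b.IsPos i) ∨ i = nidx P (j : ι))) :
    ∃ t : R, 0 ≤ t ∧ d b' = d b + t • P.coroot j := by
  have hmem : ∀ l : b.support, fundWeight b l ∈ baseCorners b' ↔ l ≠ j := by
    intro l
    constructor
    · rintro ⟨-, h⟩ rfl
      have := coroot'_nonneg b' h ((hb' _).2 (Or.inr rfl))
      rw [coroot'_nidx, coroot'_fundWeight, if_pos rfl] at this
      linarith
    · intro hl
      refine ⟨⟨b, l, rfl⟩, (mem_closedChamber_iff b' _).2 fun i hi => ?_⟩
      rcases (hb' i).1 hi with h | rfl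
      · exact coroot'_nonneg b (fundWeight_mem_closed b l) h.2
      · rw [coroot'_nidx, coroot'_fundWeight, if_neg (Ne.symm hl), neg_zero]
  have hmemb : ∀ l : b.support, fundWeight b l ∈ baseCorners b := fun l => by rw [baseCorners_eq]; exact ⟨l, rfl⟩
  have hset : baseCorners b ∩ baseCorners b' = fundWeight b '' ((Finset.univ.erase j : Finset b.support) : Set b.support) := by
    ext m
    constructor
    · rintro ⟨h1, h2⟩
      rw [baseCorners_eq] at h1
      obtain ⟨l, rfl⟩ := h1
      exact ⟨l, by simp [(hmem l).1 h2], rfl⟩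
    · rintro ⟨l, hl, rfl⟩
      exact ⟨hmemb l, (hmem l).2 (by simpa using hl)⟩
  have hcard : (baseCorners b ∩ baseCorners b').ncard + 1 = b.support.card := by
    rw [hset, Set.ncard_image_of_injective _ (fundWeight_injective b), Set.ncard_coe_finset,
      Finset.card_erase_of_mem (Finset.mem_univ j), Finset.card_univ, Fintype.card_coe]
    have : 0 < b.support.card := Finset.card_pos.2 ⟨j, j.2⟩
    omega
  have huniq : ∀ i : ι, (b.IsPos i ∧ ¬ b'.IsPos i) ↔ i = (j : ι) := by
    intro i
    constructor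
    · rintro ⟨h1, h2⟩
      by_contra hne
      exact h2 ((hb' i).2 (Or.inl ⟨hne, h1⟩))
    · rintro rfl
      refine ⟨Base.isPos_of_mem_support j.2, fun h => ?_⟩
      rcases (hb' _).1 h with h' | h'
      · exact h'.1 rfl
      · exact (isPos_nidx b (j : ι)).1 (h' ▸ Base.isPos_of_mem_support j.2) (Base.isPos_of_mem_support j.2)
  have hwall := hd.wall_le b b' j hcard huniq
  let e : R := P.toLinearMap (fundWeight b j) (d b' - d b)
  have he : d b' - d b = e • P.coroot j := by
    conv_lhs => rw [coweight_coord b (d b' - d b)]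
    refine Finset.sum_eq_single j (fun l _ hl => ?_) (by simp)
    rw [map_sub, hd.corner_eq b b' _ (hmemb l) ((hmem l).2 hl), sub_self, zero_smul]
  refine ⟨e, ?_, by rw [← he, add_sub_cancel]⟩
  have h2 : P.root' j (d b') - P.root' j (d b) = e * 2 := by
    rw [← map_sub, he, map_smul, P.root'_coroot_eq_pairing, P.pairing_same, smul_eq_mul]
  nlinarith

/-- the value of a dominant weight is least at its own chamber -/
theorem pairing_le {d : P.Base → N} (hd : IsCCS d) (b : P.Base) {ξ : M}
    (hξ : ξ ∈ _root_.RootCh.closedChamber b) (b' : P.Base) :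
    P.toLinearMap ξ (d b) ≤ P.toLinearMap ξ (d b') := by
  generalize hn : (Finset.univ.filter fun i => b'.IsPos i ∧ ¬ b.IsPos i).card = n
  induction n using Nat.strong_induction_on generalizing b' with
  | _ n ih =>
    by_cases hall : ∀ j ∈ b'.support, b.IsPos j
    · have hsub : ∀ i, b'.IsPos i → b.IsPos i := fun i hi =>
        hi.induction_on_add hall fun p q r h hp hq => hp.add (hall q hq) h
      rw [base_ext hsub]
    push_neg at hall
    obtain ⟨j, hj, hjn⟩ := hall
    obtain ⟨b'', hb''⟩ := exists_reflect_base b' hj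
    obtain ⟨t, ht, he⟩ := adjacent hd b' ⟨j, hj⟩ b'' hb''
    have hlt : (Finset.univ.filter fun i => b''.IsPos i ∧ ¬ b.IsPos i).card < n := by
      rw [← hn]
      refine Finset.card_lt_card ⟨fun i hi => ?_, fun h => ?_⟩
      · simp only [Finset.mem_filter, Finset.mem_univ, true_and, hb''] at hi ⊢
        rcases hi.1 with h | h
        · exact ⟨h.2, hi.2⟩
        · exact absurd (h ▸ (isPos_nidx b j).2 hjn) hi.2
      · have hj' : j ∈ Finset.univ.filter fun i => b'.IsPos i ∧ ¬ b.IsPos i := by
          simp [Base.isPos_of_mem_support hj, hjn]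
        have := h hj'
        simp only [Finset.mem_filter, Finset.mem_univ, true_and, hb''] at this
        rcases this.1 with h' | h'
        · exact h'.1 rfl
        · exact hjn (h' ▸ (isPos_nidx b j).2 hjn)
    have h1 := ih _ hlt b'' rfl
    rw [he, map_add, map_smul] at h1
    have h2 : P.toLinearMap ξ (P.coroot j) ≤ 0 := by
      have := coroot'_nonneg b hξ ((isPos_nidx b j).2 hjn)
      rw [coroot'_nidx, coroot'_apply] at this
      linarith
    have h3 : t • P.toLinearMap ξ (P.coroot j) ≤ 0 := mul_nonpos_of_nonneg_of_nonpos ht h2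
    linarith

lemma hull_le {d : P.Base → N} (ξ : M) (c : R) (s : Set P.Base)
    (h : ∀ b ∈ s, c ≤ P.toLinearMap ξ (d b)) {y : N} (hy : y ∈ convexHull R (d '' s)) :
    c ≤ P.toLinearMap ξ y := by
  refine convexHull_min (t := {z : N | c ≤ P.toLinearMap ξ z}) ?_ (convex_halfSpace_ge (P.toLinearMap ξ).isLinear c) hy
  rintro _ ⟨b, hb, rfl⟩
  exact h b hb

lemma solid_le {d : P.Base → N} (hd : IsCCS d) (b : P.Base) {ξ : M} (hξ : ξ ∈ _root_.RootCh.closedChamber b)
    {y : N} (hy : y ∈ solid d) : P.toLinearMap ξ (d b) ≤ P.toLinearMap ξ y :=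
  hull_le ξ _ Set.univ (fun b' _ => pairing_le hd b hξ b') (by rw [Set.image_univ]; exact hy)

lemma dualSolid_subset_solid (d : P.Base → N) (F : Facet P) : dualSolid d F ⊆ solid d :=
  convexHull_mono (Set.image_subset_range _ _)

lemma corner_mem_base {F : Facet P} {b : P.Base} (hb : b ∈ F.cham) {m : M} (hm : m ∈ F.corners) :
    m ∈ baseCorners b := by
  rw [corners_eq hb] at hm
  obtain ⟨l, -, rfl⟩ := hm
  rw [baseCorners_eq]
  exact ⟨l, rfl⟩

/-- pairing with the span of the corners is constant on the dual solid -/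
lemma span_pairing_eq {d : P.Base → N} (hd : IsCCS d) {F : Facet P} {b : P.Base} (hb : b ∈ F.cham)
    {y : N} (hy : ∀ m ∈ F.corners, P.toLinearMap m y = P.toLinearMap m (d b))
    {ξ : M} (hξ : ξ ∈ Submodule.span R F.corners) : P.toLinearMap ξ y = P.toLinearMap ξ (d b) := by
  refine Submodule.span_induction (p := fun z _ => P.toLinearMap z y = P.toLinearMap z (d b)) (fun m hm => hy m hm) (by simp) ?_ ?_ hξ
  · intro a c _ _ ha hc; simp only [map_add, LinearMap.add_apply, ha, hc]
  · intro r a _ ha; simp only [map_smul, LinearMap.smul_apply, ha]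

lemma dualSolid_eq_on_corners {d : P.Base → N} (hd : IsCCS d) {F : Facet P} {b : P.Base} (hb : b ∈ F.cham)
    {y : N} (hy : y ∈ dualSolid d F) {m : M} (hm : m ∈ F.corners) :
    P.toLinearMap m y = P.toLinearMap m (d b) := by
  refine le_antisymm ?_ (solid_le hd b (corner_mem_base hb hm).2 (dualSolid_subset_solid d F hy))
  have := hull_le (d := d) (-m) (-P.toLinearMap m (d b)) F.cham
    (fun b' hb' => by
      rw [map_neg, LinearMap.neg_apply, hd.corner_eq b b' m (corner_mem_base hb hm) (corner_mem_base hb' hm)]) hy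
  rw [map_neg, LinearMap.neg_apply] at this
  linarith

theorem dualSolid_eq {d : P.Base → N} (hd : IsCCS d) (F : Facet P) :
    dualSolid d F = (⋂ m ∈ F.corners, hyper d m) ∩ ⋂ m ∈ F.corners', halfClosed d m := by
  refine Set.Subset.antisymm (fun y hy => ?_) (fun y hy => ?_)
  · refine ⟨Set.mem_iInter₂.2 fun m hm c hc => ?_, Set.mem_iInter₂.2 fun m hm c hc => ?_⟩
    · obtain ⟨b, hb⟩ := cham_nonempty F
      rw [dualSolid_eq_on_corners hd hb hy hm]
      exact hd.corner_eq b c m (corner_mem_base hb hm) hc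
    · exact solid_le hd c hc.2 (dualSolid_subset_solid d F hy)
  · obtain ⟨hy1, hy2⟩ := hy
    by_contra hout
    haveI : Finite P.Base := Finite.of_injective (fun b : P.Base => b.support) fun b b' h => by
      obtain ⟨s, _, _, _, _⟩ := b
      obtain ⟨s', _, _, _, _⟩ := b'
      cases h
      rfl
    obtain ⟨φ, hφ⟩ := exists_separation (s := d '' F.cham) (Set.toFinite _) hout
    let ξ : M := P.toPerfPair.symm φ
    have hξ : ∀ z, P.toLinearMap ξ z = φ z := fun z => by
      rw [show P.toLinearMap ξ = φ from P.toLinearMap.apply_symm_toPerfPair_self φ]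
    obtain ⟨φ₀, hφ₀⟩ := F.exists_sgnVec_eq
    obtain ⟨b₀⟩ := P.nonempty_base
    obtain ⟨b₂, hb₂⟩ := exists_base_lex P ξ (rho b₀) (rho_regular b₀)
    obtain ⟨b, hb⟩ := exists_base_lex P φ₀ (rho b₂) (rho_regular b₂)
    have hcl : φ₀ ∈ _root_.RootCh.closedChamber b := fun i hi => by
      rcases (hb i).1 (Base.isPos_of_mem_support hi) with h | ⟨h, -⟩
      · exact h.le
      · exact h.ge
    have hbF : b ∈ F.cham := cham_of_mem hφ₀ hcl
    have hnn : ∀ l : b.support, l ∉ Jset F b → 0 ≤ P.coroot' l ξ := by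
      intro l hl
      rw [mem_Jset, not_not, ← hφ₀, sgnVec_eq_zero] at hl
      rcases (hb l).1 (Base.isPos_of_mem_support l.2) with h | ⟨-, h⟩
      · rw [hl] at h; exact absurd h (lt_irrefl _)
      · have hp : b₂.IsPos (l : ι) := by
          by_contra hn
          have := coroot'_pos_of_open b₂ (rho_mem_open b₂) ((isPos_nidx b₂ _).2 hn)
          rw [coroot'_nidx] at this
          linarith
        rcases (hb₂ l).1 hp with h' | ⟨h', -⟩
        · exact h'.le
        · exact h'.ge
    have hge : P.toLinearMap ξ (d b) ≤ P.toLinearMap ξ y := by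
      rw [weight_expansion b ξ]
      simp only [map_sum, map_smul, LinearMap.sum_apply, LinearMap.smul_apply, smul_eq_mul]
      refine Finset.sum_le_sum fun l _ => ?_
      have hlb : fundWeight b l ∈ baseCorners b := by rw [baseCorners_eq]; exact ⟨l, rfl⟩
      by_cases hl : l ∈ Jset F b
      · have hm : fundWeight b l ∈ F.corners := by rw [corners_eq hbF]; exact ⟨l, hl, rfl⟩
        rw [Set.mem_iInter₂.1 hy1 _ hm b hlb]
      · exact mul_le_mul_of_nonneg_left
          (Set.mem_iInter₂.1 hy2 _ (Set.mem_biUnion hbF hlb) b hlb) (hnn l hl)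
    have := hφ _ ⟨b, hbF, rfl⟩
    rw [← hξ, ← hξ] at this
    linarith

/-! ### degrees -/

lemma deg_eq (d : P.Base → N) (F : Facet P) (b : P.Base) :
    F.deg d b = P.toLinearMap (vF F) (d b) := by
  rw [← sum_parab_eq, map_sum, LinearMap.sum_apply]
  rfl

lemma vF_mem_span (F : Facet P) : vF F ∈ Submodule.span R F.corners :=
  span_carrier F ▸ Submodule.subset_span (vF_mem_carrier F)

lemma vF_closed {F : Facet P} {b : P.Base} (hb : b ∈ F.cham) : vF F ∈ _root_.RootCh.closedChamber b :=
  hb (vF_mem_carrier F)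

theorem deg_indep {d : P.Base → N} (hd : IsCCS d) (F : Facet P) (b b' : P.Base) (hb : b ∈ F.cham) (hb' : b' ∈ F.cham) :
    F.deg d b = F.deg d b' := by
  rw [deg_eq, deg_eq]
  refine span_pairing_eq hd hb' (fun m hm => ?_) (vF_mem_span F)
  exact hd.corner_eq b b' m (corner_mem_base hb hm) (corner_mem_base hb' hm)

lemma numInv_eq (d : P.Base → N) (F : Facet P) (m : M) (b : P.Base) :
    F.numInv d m b = P.toLinearMap (∑ i ∈ (Set.toFinite (F.Psi m)).toFinset, P.root i) (d b) := by
  rw [map_sum, LinearMap.sum_apply]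
  rfl

theorem numInv_indep {d : P.Base → N} (hd : IsCCS d) (F : Facet P) (m : M) (hm : m ∈ F.corners)
    (b b' : P.Base) (hb : b ∈ F.cham) (hb' : b' ∈ F.cham) : F.numInv d m b = F.numInv d m b' := by
  rw [numInv_eq, numInv_eq]
  exact span_pairing_eq hd hb' (fun n hn => hd.corner_eq b b' n (corner_mem_base hb hn) (corner_mem_base hb' hn))
    (sum_psi_mem_span F m hm)

lemma origin_cham (b : P.Base) : b ∈ (Facet.origin P).cham :=
  cham_of_mem rfl fun i _ => by simp

lemma origin_corners : (Facet.origin P).corners = ∅ := by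
  obtain ⟨b⟩ := P.nonempty_base
  rw [corners_eq (origin_cham b)]
  have : Jset (Facet.origin P) b = ∅ := by
    ext j
    rw [mem_Jset, show (Facet.origin P).sgn j = sgnVec P 0 j from rfl, sgnVec_eq_zero.2 (map_zero _)]
    simp
  simp [this]

theorem semistable_iff_corners {d : P.Base → N} (hd : IsCCS d) :
    (∀ (b : P.Base), ∀ m ∈ baseCorners b, P.toLinearMap m (d b) ≤ 0) ↔ IsSemistable d := by
  constructor
  · intro h
    have hs : solid d = dualSolid d (Facet.origin P) := by
      rw [solid, dualSolid, Set.eq_univ_of_forall origin_cham, Set.image_univ]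
    show (0 : N) ∈ solid d
    rw [hs, dualSolid_eq hd, origin_corners]
    refine ⟨by simp, Set.mem_iInter₂.2 fun m _ c hc => ?_⟩
    rw [map_zero]
    exact h c m hc
  · intro h b m hm
    have := solid_le hd b hm.2 (y := 0) h
    rwa [map_zero] at this

theorem semistable_iff_deg {d : P.Base → N} (hd : IsCCS d) :
    (∀ (F : Facet P) (b : P.Base), b ∈ F.cham → F.deg d b ≤ 0) ↔ IsSemistable d := by
  constructor
  · intro h
    rw [← semistable_iff_corners hd]
    intro b m hm
    rw [baseCorners_eq] at hm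
    obtain ⟨l, rfl⟩ := hm
    have hc := cham_ofVec b {l}
    have h1 := h _ b hc
    obtain ⟨a, ha, he⟩ := (mem_carrier_iff hc).1 (vF_mem_carrier (Facet.ofVec P (pt b {l})))
    rw [Jset_ofVec] at ha he
    rw [Finset.sum_singleton] at he
    rw [deg_eq, he, map_smul, LinearMap.smul_apply, smul_eq_mul] at h1
    exact nonpos_of_mul_nonpos_right h1 (ha l (Finset.mem_singleton_self l)) 
  · intro h F b hb
    rw [deg_eq]
    have := solid_le hd b (vF_closed hb) (y := 0) h
    rwa [map_zero] at this

theorem semistable_iff_deg_one {d : P.Base → N} (hd : IsCCS d) :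
    (∀ (F : Facet P) (b : P.Base), F.dim = 1 → b ∈ F.cham → F.deg d b ≤ 0) ↔ IsSemistable d := by
  constructor
  · intro h
    rw [← semistable_iff_corners hd]
    intro b m hm
    rw [baseCorners_eq] at hm
    obtain ⟨l, rfl⟩ := hm
    have hc := cham_ofVec b {l}
    have h1 := h _ b (by rw [dim_eq hc, Jset_ofVec, Finset.card_singleton]) hc
    obtain ⟨a, ha, he⟩ := (mem_carrier_iff hc).1 (vF_mem_carrier (Facet.ofVec P (pt b {l})))
    rw [Jset_ofVec] at ha he
    rw [Finset.sum_singleton] at he
    rw [deg_eq, he, map_smul, LinearMap.smul_apply, smul_eq_mul] at h1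
    exact nonpos_of_mul_nonpos_right h1 (ha l (Finset.mem_singleton_self l))
  · exact fun h F b _ hb => (semistable_iff_deg hd).2 h F b hb

/-! ### the point `y(F)` -/

lemma dualCarrier_eq (F : Facet P) : F.dualCarrier = P.PolarizationEquiv '' F.carrier := by
  have key : ∀ ξ : M, _root_.RootCh.cosgnVec P (P.PolarizationEquiv ξ) = sgnVec P ξ := fun ξ =>
    funext fun i => sign_root'_pol i ξ
  ext y
  constructor
  · intro hy
    refine ⟨P.PolarizationEquiv.symm y, ?_, LinearEquiv.apply_symm_apply _ _⟩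
    show sgnVec P _ = F.sgn
    rw [← key, LinearEquiv.apply_symm_apply]
    exact hy
  · rintro ⟨ξ, hξ, rfl⟩
    exact (key ξ).trans hξ

lemma mem_span_dualCarrier {F : Facet P} {y : N} :
    y ∈ Submodule.span R F.dualCarrier ↔ P.PolarizationEquiv.symm y ∈ Submodule.span R F.corners := by
  rw [dualCarrier_eq, ← span_carrier, show (P.PolarizationEquiv '' F.carrier) = (P.PolarizationEquiv : M →ₗ[R] N) '' F.carrier from rfl,
    ← Submodule.map_span, Submodule.mem_map_equiv]

lemma root'_span_zero {F : Facet P} {y : N} (hy : y ∈ Submodule.span R F.dualCarrier) {i : ι} (hi : F.sgn i = 0) :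
    P.root' i y = 0 := by
  refine Submodule.span_induction (p := fun z _ => P.root' i z = 0) ?_ (map_zero _) ?_ ?_ hy
  · intro z hz
    have h1 := congrFun (show _root_.RootCh.cosgnVec P z = F.sgn from hz) i
    rw [hi] at h1
    exact sign_eq_zero_iff.1 h1
  · intro a c _ _ ha hc; rw [map_add, ha, hc, add_zero]
  · intro r a _ ha; rw [map_smul, ha, smul_zero]

lemma eq_zero_of_orth {F : Facet P} {y : N} (hy : y ∈ Submodule.span R F.dualCarrier)
    (h : ∀ m ∈ F.corners, P.toLinearMap m y = 0) : y = 0 := by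
  rw [mem_span_dualCarrier] at hy
  have h0 : P.toLinearMap (P.PolarizationEquiv.symm y) y = 0 := by
    refine Submodule.span_induction (p := fun z _ => P.toLinearMap z y = 0) h (by simp) ?_ ?_ hy
    · intro a c _ _ ha hc; simp [ha, hc]
    · intro r a _ ha; simp [ha]
  by_contra hne
  have hne' : P.PolarizationEquiv.symm y ≠ 0 := by simpa using hne
  have hpos := P.rootForm_pos_of_ne_zero (by simp) hne'
  rw [← pair_pol, LinearEquiv.apply_symm_apply, h0] at hpos
  exact lt_irrefl _ hpos

lemma exists_y {F : Facet P} {b : P.Base} (hb : b ∈ F.cham) (val : b.support → R) :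
    ∃ y ∈ Submodule.span R F.dualCarrier, ∀ l ∈ Jset F b, P.toLinearMap (fundWeight b l) y = val l := by
  let L : (Jset F b → R) →ₗ[R] (Jset F b → R) :=
    { toFun := fun a l => ∑ t : Jset F b, a t * P.toLinearMap (fundWeight b l) (P.PolarizationEquiv (fundWeight b t))
      map_add' := fun a c => by funext l; simp [add_mul, Finset.sum_add_distrib]
      map_smul' := fun r a => by funext l; simp [Finset.mul_sum, mul_assoc] }
  let Y : (Jset F b → R) → N := fun a => P.PolarizationEquiv (∑ t : Jset F b, a t • fundWeight b t)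
  have hY : ∀ a, Y a ∈ Submodule.span R F.dualCarrier := by
    intro a
    rw [mem_span_dualCarrier, LinearEquiv.symm_apply_apply, corners_eq hb]
    exact Submodule.sum_mem _ fun t _ => Submodule.smul_mem _ _ (Submodule.subset_span ⟨t, t.2, rfl⟩)
  have hL : ∀ a l, L a l = P.toLinearMap (fundWeight b l) (Y a) := by
    intro a l
    simp [L, Y, map_sum]
  have hinj : Function.Injective L := by
    rw [← LinearMap.ker_eq_bot, LinearMap.ker_eq_bot']
    intro a ha
    have h0 : Y a = 0 := eq_zero_of_orth (hY a) fun m hm => by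
      rw [corners_eq hb] at hm
      obtain ⟨l, hl, rfl⟩ := hm
      rw [← hL a ⟨l, hl⟩, ha]; rfl
    have h1 : ∑ t : Jset F b, a t • fundWeight b t = 0 := P.PolarizationEquiv.injective (by rw [map_zero]; exact h0)
    funext t
    exact Fintype.linearIndependent_iff.1 ((linearIndependent_fundWeight b).comp _ Subtype.val_injective) a h1 t
  obtain ⟨a, ha⟩ := LinearMap.injective_iff_surjective.1 hinj fun l => val l
  exact ⟨Y a, hY a, fun l hl => by rw [← hL a ⟨l, hl⟩, ha]⟩

lemma yLocus_eq_singleton {d : P.Base → N} (hd : IsCCS d) {F : Facet P} {b : P.Base} (hb : b ∈ F.cham)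
    {y : N} (hy : y ∈ Submodule.span R F.dualCarrier) (hyv : ∀ m ∈ F.corners, P.toLinearMap m y = P.toLinearMap m (d b)) :
    yLocus d F = {y} := by
  refine Set.eq_singleton_iff_unique_mem.2 ⟨⟨Set.mem_iInter₂.2 fun m hm c hc => ?_, hy⟩, ?_⟩
  · rw [hyv m hm]; exact hd.corner_eq b c m (corner_mem_base hb hm) hc
  · rintro z ⟨hz1, hz2⟩
    rw [← sub_eq_zero]
    refine eq_zero_of_orth (Submodule.sub_mem _ hz2 hy) fun m hm => ?_
    rw [map_sub, Set.mem_iInter₂.1 hz1 m hm b (corner_mem_base hb hm), hyv m hm, sub_self]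

theorem yLocus_special {d : P.Base → N} (hd : IsCCS d) {F : Facet P} (hF : IsSpecial d F) :
    ∃ y₀ : N, yLocus d F = {y₀} ∧ F.dualCarrier ∩ dualSolid d F = {y₀} := by
  obtain ⟨b, hb⟩ := cham_nonempty F
  obtain ⟨y, hy1, hy2⟩ := hF
  have h := yLocus_eq_singleton hd hb (Submodule.subset_span hy1) fun m hm => dualSolid_eq_on_corners hd hb hy2 hm
  refine ⟨y, h, Set.eq_singleton_iff_unique_mem.2 ⟨⟨hy1, hy2⟩, ?_⟩⟩
  rintro z ⟨hz1, hz2⟩
  have hz : z ∈ yLocus d F :=
    ⟨Set.mem_iInter₂.2 fun m hm c hc => by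
      rw [dualSolid_eq_on_corners hd hb hz2 hm]; exact hd.corner_eq b c m (corner_mem_base hb hm) hc,
     Submodule.subset_span hz1⟩
  rwa [h, Set.mem_singleton_iff] at hz

lemma pairing_vF (F : Facet P) (y : N) :
    P.toLinearMap (vF F) y = ∑ i ∈ Finset.univ.filter (fun i => F.sgn i = 1), P.root' i y := by
  rw [vF, map_sum, LinearMap.sum_apply]


lemma root'_coords {F : Facet P} (b : P.Base) {y : N} (hy : y ∈ Submodule.span R F.dualCarrier) (i : ι) :
    P.root' i y = ∑ l ∈ Jset F b, coe' b i l * P.root' l y := by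
  rw [root'_eq_sum b]
  refine (Finset.sum_subset (Finset.subset_univ _) fun l _ hl => ?_).symm
  rw [mem_Jset, not_not] at hl
  rw [root'_span_zero hy hl, mul_zero]

lemma mem_dualCarrier_of_pos {F : Facet P} {b : P.Base} (hb : b ∈ F.cham) {y : N}
    (hy : y ∈ Submodule.span R F.dualCarrier) (hpos : ∀ l ∈ Jset F b, 0 < P.root' l y) : y ∈ F.dualCarrier := by
  set ζ := P.PolarizationEquiv.symm y
  have hy' : P.PolarizationEquiv ζ = y := LinearEquiv.apply_symm_apply _ _
  rw [dualCarrier_eq]
  refine ⟨ζ, (mem_carrier_iff hb).2 ⟨fun l => P.coroot' l ζ, fun l hl => ?_, ?_⟩, hy'⟩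
  · show 0 < P.coroot' l ζ
    rw [coroot'_eq, hy']; exact mul_pos (cf_pos _) (hpos l hl)
  · conv_lhs => rw [weight_expansion b ζ]
    refine (Finset.sum_subset (Finset.subset_univ _) fun l _ hl => ?_).symm
    rw [mem_Jset, not_not] at hl
    rw [coroot'_eq, hy', root'_span_zero hy hl, mul_zero, zero_smul]

lemma numInv_eq_card {d : P.Base → N} (hd : IsCCS d) {F : Facet P} {b : P.Base} (hb : b ∈ F.cham)
    {y : N} (hy : y ∈ Submodule.span R F.dualCarrier) (hys : y ∈ dualSolid d F) {j : b.support} (hj : j ∈ Jset F b) :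
    F.numInv d (fundWeight b j) b = ((Set.toFinite (F.Psi (fundWeight b j))).toFinset.card : R) * P.root' j y ∧
      0 < ((Set.toFinite (F.Psi (fundWeight b j))).toFinset.card : R) := by
  have hm : fundWeight b j ∈ F.corners := by rw [corners_eq hb]; exact ⟨j, hj, rfl⟩
  constructor
  · rw [numInv_eq, ← span_pairing_eq hd hb (fun m hm => dualSolid_eq_on_corners hd hb hys hm) (sum_psi_mem_span F _ hm),
      map_sum, LinearMap.sum_apply, ← nsmul_eq_mul, ← Finset.sum_const]
    refine Finset.sum_congr rfl fun i hi => ?_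
    rw [Set.Finite.mem_toFinset, mem_Psi_iff hb] at hi
    rw [← root'_apply, root'_coords b hy i, Finset.sum_eq_single j (fun l hl hlj => by rw [hi.2 l hl hlj, zero_mul])
      (fun h => absurd hj h), hi.1, one_mul]
  · rw [Nat.cast_pos, Finset.card_pos]
    refine ⟨j, ?_⟩
    rw [Set.Finite.mem_toFinset, mem_Psi_iff hb]
    exact ⟨by rw [coe'_support, if_pos rfl], fun l _ hl => by rw [coe'_support, if_neg hl]⟩

theorem special_iff {d : P.Base → N} (hd : IsCCS d) (F : Facet P) :
    ((∀ m ∈ F.corners, ∀ b ∈ F.cham, 0 < F.numInv d m b) ∧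
        (dualSolid d F ∩ (Submodule.span R F.dualCarrier : Set N)).Nonempty) ↔ IsSpecial d F := by
  obtain ⟨b, hb⟩ := cham_nonempty F
  constructor
  · rintro ⟨h1, y, hys, hy⟩
    refine ⟨y, mem_dualCarrier_of_pos hb hy fun l hl => ?_, hys⟩
    obtain ⟨he, hc⟩ := numInv_eq_card hd hb hy hys hl
    have := h1 _ (by rw [corners_eq hb]; exact ⟨l, hl, rfl⟩) b hb
    rw [he] at this
    exact (pos_iff_pos_of_mul_pos this).1 hc
  · rintro ⟨y, hy, hys⟩
    refine ⟨fun m hm c hc => ?_, y, hys, Submodule.subset_span hy⟩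
    rw [numInv_indep hd F m hm c b hc hb]
    rw [corners_eq hb] at hm
    obtain ⟨l, hl, rfl⟩ := hm
    obtain ⟨he, hc'⟩ := numInv_eq_card hd hb (Submodule.subset_span hy) hys hl
    rw [he]
    refine mul_pos hc' ?_
    have h1 : SignType.sign (P.root' (l : ι) y) = F.sgn l := congrFun (show _root_.RootCh.cosgnVec P y = F.sgn from hy) l
    rw [sgn_simple hb, if_pos (Finset.mem_coe.1 hl)] at h1
    exact sign_eq_one_iff.1 h1

theorem special_greatest {d : P.Base → N} (hd : IsCCS d) (F : Facet P) (b : P.Base) (hb : b ∈ F.cham)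
    (hF : IsSpecial d F) :
    (∀ (G : Facet P) (c : P.Base), c ∈ G.cham → G.deg d c ≤ F.deg d b) ∧
      ∀ (G : Facet P) (c : P.Base), c ∈ G.cham → G.deg d c = F.deg d b → G ≤ F := by
  obtain ⟨y, hy, hys⟩ := hF
  have hys' := dualSolid_subset_solid d F hys
  have hsg : ∀ i, SignType.sign (P.root' i y) = F.sgn i := fun i =>
    congrFun (show _root_.RootCh.cosgnVec P y = F.sgn from hy) i
  have hdegF : F.deg d b = ∑ i, if 0 < P.root' i y then P.root' i y else 0 := by
    rw [deg_eq, ← span_pairing_eq hd hb (fun m hm => dualSolid_eq_on_corners hd hb hys hm) (vF_mem_span F),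
      pairing_vF, Finset.sum_filter]
    refine Finset.sum_congr rfl fun i _ => ?_
    by_cases h : 0 < P.root' i y
    · rw [if_pos h, if_pos (by rw [← hsg]; exact sign_pos h)]
    · rw [if_neg h, if_neg fun e => h (sign_eq_one_iff.1 ((hsg i).trans e))]
  have hle : ∀ (G : Facet P) (c : P.Base), c ∈ G.cham →
      G.deg d c ≤ ∑ i, if G.sgn i ≠ -1 then P.root' i y else 0 := by
    intro G c hc
    rw [deg_eq]
    refine (solid_le hd c (vF_closed hc) hys').trans_eq ?_
    rw [← sum_parab_eq, map_sum, LinearMap.sum_apply, ← Finset.sum_filter]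
    refine Finset.sum_congr ?_ fun i _ => rfl
    ext i
    simp [Facet.parab]
  have hterm : ∀ (G : Facet P) (i : ι), (if G.sgn i ≠ -1 then P.root' i y else 0) ≤ if 0 < P.root' i y then P.root' i y else 0 := by
    intro G i
    split_ifs with h1 h2 h3
    · exact le_rfl
    · exact not_lt.1 h2
    · exact h3.le
    · exact le_rfl
  refine ⟨fun G c hc => (hle G c hc).trans ((Finset.sum_le_sum fun i _ => hterm G i).trans_eq hdegF.symm),
    fun G c hc he => ?_⟩
  have heq : ∀ i, (if G.sgn i ≠ -1 then P.root' i y else 0) = if 0 < P.root' i y then P.root' i y else 0 := by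
    intro i
    refine (Finset.sum_eq_sum_iff_of_le fun i _ => hterm G i).1 ?_ i (Finset.mem_univ i)
    exact le_antisymm (Finset.sum_le_sum fun i _ => hterm G i) (by rw [← hdegF, ← he]; exact hle G c hc)
  rw [Facet.le_def]
  intro i
  rcases lt_trichotomy (P.root' i y) 0 with h | h | h
  · right
    have h1 := heq i
    rw [if_neg (not_lt.2 h.le)] at h1
    rw [← hsg, sign_neg h]
    by_contra hne
    rw [if_pos (Ne.symm hne)] at h1
    exact h.ne h1
  · left
    rw [← hsg, h, sign_zero]
  · right
    have h1 := heq (nidx P i)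
    rw [root'_nidx, if_neg (not_lt.2 (neg_nonpos.2 h.le))] at h1
    rw [← hsg, sign_pos h]
    by_contra hne
    rw [if_pos ?_] at h1
    · exact h.ne' (neg_eq_zero.1 h1)
    · rw [sgn_nidx]
      revert hne
      cases G.sgn i <;> simp

theorem special_of_max {d : P.Base → N} (hd : IsCCS d) (F : Facet P) (b : P.Base) (hb : b ∈ F.cham)
    (hmax : ∀ (G : Facet P) (c : P.Base), c ∈ G.cham → G.deg d c ≤ F.deg d b)
    (hmaxl : ∀ (G : Facet P) (c : P.Base), c ∈ G.cham → G.deg d c = F.deg d b → F ≤ G → G = F) :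
    IsSpecial d F := by
  obtain ⟨y, hy, hyv⟩ := exists_y hb fun l => P.toLinearMap (fundWeight b l) (d b)
  have hyv' : ∀ m ∈ F.corners, P.toLinearMap m y = P.toLinearMap m (d b) := by
    intro m hm
    rw [corners_eq hb] at hm
    obtain ⟨l, hl, rfl⟩ := hm
    exact hyv l hl
  have hdegy : ∀ c ∈ F.cham, F.deg d c = P.toLinearMap (vF F) y := fun c hc => by
    rw [deg_indep hd F c b hc hb, deg_eq, span_pairing_eq hd hb hyv' (vF_mem_span F)]
  refine ⟨y, mem_dualCarrier_of_pos hb hy fun j hj => ?_, ?_⟩
  · let G := Facet.ofVec P (pt b ((Jset F b).erase j))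
    have hG : b ∈ G.cham := cham_ofVec b _
    have hJG : Jset G b = (Jset F b).erase j := Jset_ofVec b _
    have hdegG : G.deg d b = P.toLinearMap (vF G) y := by
      rw [deg_eq, span_pairing_eq hd hb (y := y) hyv']
      refine Submodule.span_mono ?_ (vF_mem_span G)
      rw [corners_eq hG, corners_eq hb, hJG]
      exact Set.image_mono (by simp)
    have hpos : ∀ i, G.sgn i = 1 → F.sgn i = 1 := by
      intro i hi
      by_cases hp : b.IsPos i
      · rw [sgn_pos_root hG hp, hJG] at hi
        rw [sgn_pos_root hb hp, if_neg]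
        intro hall
        rw [if_pos fun l hl => hall l (Finset.mem_of_mem_erase hl)] at hi
        exact absurd hi (by simp)
      · exfalso
        have := (cham_iff G b).1 hG _ ((isPos_nidx b i).2 hp)
        rw [sgn_nidx, hi] at this
        exact this rfl
    have hdiff : F.deg d b - G.deg d b =
        (∑ i ∈ Finset.univ.filter (fun i => F.sgn i = 1 ∧ G.sgn i ≠ 1), coe' b i j) * P.root' j y := by
      rw [hdegy b hb, hdegG, pairing_vF, pairing_vF]
      have hsub : Finset.univ.filter (fun i => G.sgn i = 1) ⊆ Finset.univ.filter fun i => F.sgn i = 1 :=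
        fun i hi => by simp only [Finset.mem_filter, Finset.mem_univ, true_and] at hi ⊢; exact hpos i hi
      rw [← Finset.sum_sdiff hsub, add_sub_cancel_right, Finset.sum_mul]
      refine Finset.sum_congr ?_ fun i hi => ?_
      · ext i; simp
      · simp only [Finset.mem_filter, Finset.mem_univ, true_and] at hi
        rw [root'_coords b hy i, Finset.sum_eq_single j _ (fun h => absurd hj h)]
        intro l hl hlj
        have hp : b.IsPos i := by
          by_contra hp
          have := (cham_iff F b).1 hb _ ((isPos_nidx b i).2 hp)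
          rw [sgn_nidx, hi.1] at this
          exact this rfl
        have hG0 := hi.2
        rw [sgn_pos_root hG hp] at hG0
        split_ifs at hG0 with hall
        · rw [hall l (by rw [hJG]; exact Finset.mem_erase.2 ⟨hlj, hl⟩), zero_mul]
        · exact absurd rfl hG0
    have hC : 0 < ∑ i ∈ Finset.univ.filter (fun i => F.sgn i = 1 ∧ G.sgn i ≠ 1), coe' b i j := by
      refine Finset.sum_pos' (fun i hi => ?_) ⟨j, ?_, ?_⟩
      · simp only [Finset.mem_filter, Finset.mem_univ, true_and] at hi
        refine coe'_nonneg b ?_ j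
        by_contra hp
        have := (cham_iff F b).1 hb _ ((isPos_nidx b i).2 hp)
        rw [sgn_nidx, hi.1] at this
        exact this rfl
      · simp only [Finset.mem_filter, Finset.mem_univ, true_and]
        rw [sgn_simple hb, if_pos hj, sgn_simple hG, hJG, if_neg (Finset.notMem_erase j _)]
        simp
      · rw [coe'_support, if_pos rfl]; exact one_pos
    by_contra hn
    have h1 := hmax G b hG
    have h2 : (∑ i ∈ Finset.univ.filter (fun i => F.sgn i = 1 ∧ G.sgn i ≠ 1), coe' b i j) * P.root' j y ≤ 0 :=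
      mul_nonpos_of_nonneg_of_nonpos hC.le (not_lt.1 hn)
    have hGF : F ≤ G := by
      rw [Facet.le_def]
      intro i
      by_cases h0 : G.sgn i = 0
      · exact Or.inl h0
      · refine Or.inr ?_
        rcases SignType.trichotomy (G.sgn i) with h | h | h
        · have hneg : G.sgn (nidx P i) = 1 := by rw [sgn_nidx, h]; rfl
          have := hpos _ hneg
          rw [sgn_nidx] at this
          rw [h, ← neg_neg (F.sgn i), this]
        · exact absurd h h0
        · rw [h, hpos i h]
    have := hmaxl G b hG (by linarith) hGF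
    have hj' : j ∈ Jset G b := by rw [this]; exact hj
    rw [hJG] at hj'
    exact Finset.notMem_erase j _ hj'
  · rw [dualSolid_eq hd]
    refine ⟨Set.mem_iInter₂.2 fun m hm c hc => ?_, Set.mem_iInter₂.2 fun m hm c hc => ?_⟩
    · rw [hyv' m hm]; exact hd.corner_eq b c m (corner_mem_base hb hm) hc
    obtain ⟨b', hb', hm'⟩ := Set.mem_iUnion₂.1 hm
    have hm'' := hm'
    rw [baseCorners_eq] at hm''
    obtain ⟨k, rfl⟩ := hm''
    rw [← hd.corner_eq b' c _ hm' hc]
    by_cases hk : k ∈ Jset F b'
    · have hmc : fundWeight b' k ∈ F.corners := by rw [corners_eq hb']; exact ⟨k, hk, rfl⟩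
      rw [hyv' _ hmc, hd.corner_eq b' b _ hm' (corner_mem_base hb hmc)]
    let G := Facet.ofVec P (pt b' (insert k (Jset F b')))
    have hG : b' ∈ G.cham := cham_ofVec b' _
    have hJG : Jset G b' = insert k (Jset F b') := Jset_ofVec b' _
    have hFG : ∀ i, F.sgn i = 1 → G.sgn i = 1 := by
      intro i hi
      have hp : b'.IsPos i := by
        by_contra hp
        have := (cham_iff F b').1 hb' _ ((isPos_nidx b' i).2 hp)
        rw [sgn_nidx, hi] at this
        exact this rfl
      rw [sgn_pos_root hG hp, if_neg]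
      intro hall
      rw [sgn_pos_root hb' hp, if_pos fun l hl => hall l (hJG ▸ Finset.mem_insert_of_mem hl)] at hi
      exact absurd hi (by simp)
    have hGy : P.toLinearMap (vF G) y = P.toLinearMap (vF F) y := by
      rw [pairing_vF, pairing_vF]
      refine (Finset.sum_subset (fun i hi => ?_) fun i hi hni => ?_).symm
      · simp only [Finset.mem_filter, Finset.mem_univ, true_and] at hi ⊢
        exact hFG i hi
      · simp only [Finset.mem_filter, Finset.mem_univ, true_and] at hi hni
        refine root'_span_zero hy ?_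
        rcases SignType.trichotomy (F.sgn i) with h | h | h
        · have := hFG (nidx P i) (by rw [sgn_nidx, h]; rfl)
          rw [sgn_nidx, hi] at this
          exact absurd this (by decide)
        · exact h
        · exact absurd h hni
    have hdeg := hmax G b' hG
    rw [deg_eq, hdegy b hb, ← hGy] at hdeg
    rw [weight_expansion b' (vF G)] at hdeg
    simp only [map_sum, map_smul, LinearMap.sum_apply, LinearMap.smul_apply, smul_eq_mul] at hdeg
    rw [← Finset.add_sum_erase _ _ (Finset.mem_univ k), ← Finset.add_sum_erase _ _ (Finset.mem_univ k)] at hdeg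
    have hrest : ∑ l ∈ (Finset.univ : Finset b'.support).erase k, P.coroot' l (vF G) * P.toLinearMap (fundWeight b' l) (d b') =
        ∑ l ∈ (Finset.univ : Finset b'.support).erase k, P.coroot' l (vF G) * P.toLinearMap (fundWeight b' l) y := by
      refine Finset.sum_congr rfl fun l hl => ?_
      by_cases hlJ : l ∈ Jset F b'
      · have hmc : fundWeight b' l ∈ F.corners := by rw [corners_eq hb']; exact ⟨l, hlJ, rfl⟩
        rw [hyv' _ hmc, hd.corner_eq b' b _ (corner_mem_base hb' hmc) (corner_mem_base hb hmc)]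
      · have := vF_coroot hG l
        rw [hJG, if_neg (by simp [Finset.ne_of_mem_erase hl, hlJ])] at this
        rw [this, zero_mul, zero_mul]
    rw [hrest] at hdeg
    have hk' := vF_coroot hG k
    rw [hJG, if_pos (Finset.mem_insert_self k _)] at hk'
    exact le_of_mul_le_mul_left (le_of_add_le_add_right hdeg) hk'

theorem exists_special {d : P.Base → N} (hd : IsCCS d) : ∃ F : Facet P, IsSpecial d F := by
  haveI : Finite (Facet P) := Finite.of_injective (fun F : Facet P => F.sgn) fun F G h => Facet.ext h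
  haveI : Nonempty (Facet P) := ⟨Facet.origin P⟩
  choose ch hch using cham_nonempty (P := P)
  obtain ⟨F₀, hF₀⟩ := Finite.exists_max fun F : Facet P => F.deg d (ch F)
  obtain ⟨F, hF⟩ := (Set.toFinite {F : Facet P | F.deg d (ch F) = F₀.deg d (ch F₀)}).exists_maximal ⟨F₀, rfl⟩
  refine ⟨F, special_of_max hd F (ch F) (hch F) (fun G c hc => ?_) fun G c hc he hle => ?_⟩
  · rw [deg_indep hd G c (ch G) hc (hch G)]
    exact (hF₀ G).trans_eq hF.prop.symm
  · rw [deg_indep hd G c (ch G) hc (hch G)] at he
    exact le_antisymm (hF.2 (show G ∈ _ from he.trans hF.prop) hle) hle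

/-! ### the nearest point -/

lemma dual_vector (B : LinearMap.BilinForm R N) (hBs : ∀ y z : N, B y z = B z y) (hBp : ∀ y : N, y ≠ 0 → 0 < B y y)
    (hBi : ∀ (i : ι) (y z : N), B (P.coreflection i y) (P.coreflection i z) = B y z)
    (F : Facet P) {y₀ : N} (hy₀ : y₀ ∈ F.dualCarrier) :
    ∃ ξ ∈ F.carrier, ∀ z, P.toLinearMap ξ z = B y₀ z := by
  let ξ : M := P.toPerfPair.symm (B y₀)
  have hξ : ∀ z, P.toLinearMap ξ z = B y₀ z := fun z => by
    rw [show P.toLinearMap ξ = B y₀ from P.toLinearMap.apply_symm_toPerfPair_self _]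
  refine ⟨ξ, funext fun i => ?_, hξ⟩
  rw [← congrFun (show _root_.RootCh.cosgnVec P y₀ = F.sgn from hy₀) i, sgnVec, _root_.RootCh.cosgnVec, coroot'_apply, hξ]
  have h := hBi i y₀ (P.coroot i)
  simp only [P.coreflection_apply, P.root'_coroot_eq_pairing, P.pairing_same, map_sub, map_smul, LinearMap.sub_apply,
    LinearMap.smul_apply, smul_eq_mul, two_smul, map_add] at h
  have hpos : 0 < B (P.coroot i) (P.coroot i) := hBp _ (P.flip.ne_zero i)
  have e : B y₀ (P.coroot i) = (B (P.coroot i) (P.coroot i) / 2) * P.root' i y₀ := by linarith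
  rw [e, sign_mul, sign_pos (half_pos hpos), one_mul]

theorem special_nearest {d : P.Base → N} (hd : IsCCS d) (B : LinearMap.BilinForm R N)
    (hBs : ∀ y z : N, B y z = B z y) (hBp : ∀ y : N, y ≠ 0 → 0 < B y y)
    (hBi : ∀ (i : ι) (y z : N), B (P.coreflection i y) (P.coreflection i z) = B y z)
    (F : Facet P) (hF : IsSpecial d F) :
    ∃ y₀ : N, yLocus d F = {y₀} ∧ y₀ ∈ F.dualCarrier ∧ y₀ ∈ solid d ∧ ∀ y ∈ solid d, y ≠ y₀ → B y₀ y₀ < B y y := by
  obtain ⟨y₀, h1, h2⟩ := yLocus_special hd hF
  have hmem : y₀ ∈ F.dualCarrier ∩ dualSolid d F := by rw [h2]; rfl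
  refine ⟨y₀, h1, hmem.1, dualSolid_subset_solid d F hmem.2, fun y hy hne => ?_⟩
  obtain ⟨b, hb⟩ := cham_nonempty F
  obtain ⟨ξ, hξ, hξB⟩ := dual_vector B hBs hBp hBi F hmem.1
  have h3 := solid_le hd b (hb hξ) hy
  rw [← span_pairing_eq hd hb (fun m hm => dualSolid_eq_on_corners hd hb hmem.2 hm)
    (span_carrier F ▸ Submodule.subset_span hξ), hξB, hξB] at h3
  have h4 := hBp (y - y₀) (sub_ne_zero.2 hne)
  simp only [map_sub, LinearMap.sub_apply] at h4
  have := hBs y y₀
  linarith

/-- the canonical invariant form on the coweight space -/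
noncomputable def stdForm (P : RootPairing ι R M N) [P.IsRootSystem] : LinearMap.BilinForm R N :=
  P.flip.RootForm

lemma stdForm_pos {y : N} (hy : y ≠ 0) : 0 < stdForm P y y :=
  P.flip.rootForm_pos_of_ne_zero (by simp) hy

lemma stdForm_symm (y z : N) : stdForm P y z = stdForm P z y := P.flip.rootForm_symmetric.eq y z

lemma stdForm_inv (i : ι) (y z : N) : stdForm P (P.coreflection i y) (P.coreflection i z) = stdForm P y z :=
  P.flip.rootForm_reflection_reflection_apply i y z

theorem special_unique {d : P.Base → N} (hd : IsCCS d) {F G : Facet P} (hF : IsSpecial d F) (hG : IsSpecial d G) :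
    F = G := by
  obtain ⟨y, -, hy, hys, hmin⟩ := special_nearest hd (stdForm P) stdForm_symm (fun _ => stdForm_pos) stdForm_inv F hF
  obtain ⟨z, -, hz, hzs, hmin'⟩ := special_nearest hd (stdForm P) stdForm_symm (fun _ => stdForm_pos) stdForm_inv G hG
  have : y = z := by
    by_contra hne
    exact lt_asymm (hmin z hzs (Ne.symm hne)) (hmin' y hys hne)
  subst this
  exact Facet.ext ((show _root_.RootCh.cosgnVec P y = F.sgn from hy).symm.trans hz)

theorem special_of_min {d : P.Base → N} (hd : IsCCS d) (B : LinearMap.BilinForm R N)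
    (hBs : ∀ y z : N, B y z = B z y) (hBp : ∀ y : N, y ≠ 0 → 0 < B y y)
    (hBi : ∀ (i : ι) (y z : N), B (P.coreflection i y) (P.coreflection i z) = B y z)
    (y₀ : N) (hy₀ : y₀ ∈ solid d) (hmin : ∀ y ∈ solid d, B y₀ y₀ ≤ B y y)
    (F : Facet P) (hF : y₀ ∈ F.dualCarrier) : IsSpecial d F ∧ yLocus d F = {y₀} := by
  obtain ⟨G, hG⟩ := exists_special hd
  obtain ⟨z, h1, h2, h3, h4⟩ := special_nearest hd B hBs hBp hBi G hG
  have : y₀ = z := by
    by_contra hne
    exact absurd (hmin z h3) (not_le.2 (h4 y₀ hy₀ hne))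
  subst this
  have : F = G := Facet.ext ((show _root_.RootCh.cosgnVec P y₀ = F.sgn from hF).symm.trans h2)
  subst this
  exact ⟨hG, h1⟩

theorem existsUnique_special {d : P.Base → N} (hd : IsCCS d) : ∃! F : Facet P, IsSpecial d F := by
  obtain ⟨F, hF⟩ := exists_special hd
  exact ⟨F, hF, fun G hG => special_unique hd hG hF⟩

end Groth.Agent.Lead.RootCh
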